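/-
Reflections of norm one of the sums of squares over the field with three elements.
-/
import Cfsg.Agent.Lib.Orth.ReflProducts
import Cfsg.Prelude.Def_FischerSpaces

set_option autoImplicit false

namespace CfsgLib.Spor.FischerTypes

open CfsgLib.Orth Matrix

variable {n : ℕ}

/-- The sum of squares. -/
noncomputable def sumSq (n : ℕ) : QuadraticForm (ZMod 3) (Fin n → ZMod 3) :=
  QuadraticMap.weightedSumSquares (ZMod 3) fun _ : Fin n => (1 : ZMod 3)

theorem sumSq_apply (x : Fin n → ZMod 3) : sumSq n x = ∑ i, x i * x i := by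
  simp [sumSq]

/-- The dot product. -/
def dot (x y : Fin n → ZMod 3) : ZMod 3 := ∑ i, x i * y i

theorem polar_sumSq (x y : Fin n → ZMod 3) : QuadraticMap.polar (⇑(sumSq n)) x y = 2 * dot x y := by
  simp only [QuadraticMap.polar, sumSq_apply, dot, Finset.mul_sum, ← Finset.sum_sub_distrib, Pi.add_apply]
  exact Finset.sum_congr rfl fun i _ => by ring

theorem nondeg : (QuadraticMap.polarBilin (sumSq n)).Nondegenerate := by
  have key : ∀ x : Fin n → ZMod 3, (∀ y, QuadraticMap.polar (⇑(sumSq n)) x y = 0) → x = 0 := by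
    intro x h
    funext i
    have := h (Pi.single i 1)
    rw [polar_sumSq, dot, Finset.sum_eq_single i (fun j _ hj => by simp [hj]) (by simp)] at this
    simp only [Pi.single_eq_same, mul_one] at this
    revert this
    show (2 : ZMod 3) * x i = 0 → x i = 0
    generalize x i = a
    revert a
    decide
  refine ⟨fun x h => key x h, fun y h => key y fun x => ?_⟩
  rw [QuadraticMap.polar_comm]
  exact h x

theorem gram_det : Cfsg.polarGramDet (⇑(sumSq n)) = (2 : ZMod 3) ^ n := by
  have e : (Matrix.of fun i j : Fin n => QuadraticMap.polar (⇑(sumSq n)) (Pi.single i 1) (Pi.single j 1)) =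
      Matrix.diagonal fun _ => (2 : ZMod 3) := by
    ext i j
    rw [Matrix.of_apply, polar_sumSq, dot, Finset.sum_eq_single i (fun k _ hk => by simp [hk]) (by simp),
      Matrix.diagonal_apply]
    by_cases h : i = j
    · subst h; simp
    · simp [h]
  rw [Cfsg.polarGramDet, e, Matrix.det_diagonal, Finset.prod_const, Finset.card_univ, Fintype.card_fin]

theorem sumSq_eq_dot (v : Fin n → ZMod 3) : sumSq n v = dot v v := sumSq_apply v

/-- The image of a vector under the reflection in a vector of norm one. -/
def reflVec (v x : Fin n → ZMod 3) : Fin n → ZMod 3 := fun i => x i + dot v x * v i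

/-- The reflection in a vector of norm one. -/
noncomputable def refl1 (v : Fin n → ZMod 3) (hv : dot v v = 1) :
    Cfsg.isometryGroup (ZMod 3) (⇑(sumSq n)) :=
  (exists_reflIso (Q := sumSq n) nondeg (v := v) (by rw [sumSq_eq_dot, hv]; exact one_ne_zero)).choose

/-- The matrix of an isometry. -/
abbrev matr (g : Cfsg.isometryGroup (ZMod 3) (⇑(sumSq n))) : Matrix (Fin n) (Fin n) (ZMod 3) := g.1.1

theorem refl1_matrix (v : Fin n → ZMod 3) (hv : dot v v = 1) :
    matr (refl1 v hv) = Cfsg.reflectionMatrix (⇑(sumSq n)) v :=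
  (exists_reflIso (Q := sumSq n) nondeg (v := v) (by rw [sumSq_eq_dot, hv]; exact one_ne_zero)).choose_spec.1

theorem refl1_mulVec (v : Fin n → ZMod 3) (hv : dot v v = 1) (x : Fin n → ZMod 3) :
    matr (refl1 v hv) *ᵥ x = reflVec v x := by
  have h := (exists_reflIso (Q := sumSq n) nondeg (v := v) (by rw [sumSq_eq_dot, hv]; exact one_ne_zero)).choose_spec.2 x
  refine h.trans ?_
  funext i
  rw [polar_sumSq, sumSq_eq_dot, hv, inv_one, one_mul, show dot x v = dot v x from
    Finset.sum_congr rfl fun j _ => mul_comm _ _]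
  simp only [Pi.sub_apply, Pi.smul_apply, smul_eq_mul, reflVec]
  rw [show (2 : ZMod 3) = -1 from by decide]
  ring

theorem ext_matr {g h : Cfsg.isometryGroup (ZMod 3) (⇑(sumSq n))} (e : ∀ x, matr g *ᵥ x = matr h *ᵥ x) : g = h :=
  Subtype.ext (Units.ext (Matrix.ext_of_mulVec_single fun j => e _))

theorem dot_reflVec (v x y : Fin n → ZMod 3) (hv : dot v v = 1) :
    dot (reflVec v x) (reflVec v y) = dot x y := by
  have e : ∀ i, reflVec v x i * reflVec v y i =
      x i * y i + dot v x * (v i * y i) + dot v y * (v i * x i) + dot v x * dot v y * (v i * v i) := fun i => by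
    simp only [reflVec]; ring
  show ∑ i, reflVec v x i * reflVec v y i = _
  simp only [e, Finset.sum_add_distrib, ← Finset.mul_sum]
  show dot x y + dot v x * dot v y + dot v y * dot v x + dot v x * dot v y * dot v v = _
  rw [hv]
  generalize dot x y = a
  generalize dot v x = b
  generalize dot v y = c
  revert a b c
  decide

theorem reflVec_twice (v x : Fin n → ZMod 3) (hv : dot v v = 1) : reflVec v (reflVec v x) = x := by
  have e : dot v (reflVec v x) = 2 * dot v x := by
    show ∑ i, v i * (x i + dot v x * v i) = _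
    simp only [mul_add, Finset.sum_add_distrib, show ∀ i, v i * (dot v x * v i) = dot v x * (v i * v i) from
      fun i => by ring, ← Finset.mul_sum]
    show dot v x + dot v x * dot v v = _
    rw [hv]; ring
  funext i
  show (x i + dot v x * v i) + dot v (reflVec v x) * v i = x i
  rw [e]
  generalize x i = a
  generalize dot v x = b
  generalize v i = c
  revert a b c
  decide

theorem refl1_conj (v w : Fin n → ZMod 3) (hv : dot v v = 1) (hw : dot w w = 1)
    (hu : dot (reflVec v w) (reflVec v w) = 1) :
    refl1 v hv * refl1 w hw * (refl1 v hv)⁻¹ = refl1 (reflVec v w) hu := by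
  rw [mul_inv_eq_iff_eq_mul]
  refine ext_matr fun x => ?_
  show (matr (refl1 v hv) * matr (refl1 w hw)) *ᵥ x = (matr (refl1 _ hu) * matr (refl1 v hv)) *ᵥ x
  simp only [← mulVec_mulVec, refl1_mulVec]
  funext i
  show (reflVec w x) i + dot v (reflVec w x) * v i =
    reflVec v x i + dot (reflVec v w) (reflVec v x) * reflVec v w i
  rw [dot_reflVec v w x hv]
  simp only [reflVec, show dot v (reflVec w x) = dot v x + dot w x * dot v w from by
    show ∑ j, v j * (x j + dot w x * w j) = _
    simp only [mul_add, Finset.sum_add_distrib, show ∀ j, v j * (dot w x * w j) = dot w x * (v j * w j) from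
      fun j => by ring, ← Finset.mul_sum]
    rfl]
  ring

theorem refl1_neg (v : Fin n → ZMod 3) (hv : dot v v = 1) (hv' : dot (-v) (-v) = 1) :
    refl1 (-v) hv' = refl1 v hv := by
  refine ext_matr fun x => ?_
  rw [refl1_mulVec, refl1_mulVec]
  funext i
  show x i + (∑ j, (-v) j * x j) * (-v) i = x i + (∑ j, v j * x j) * v i
  simp [Finset.sum_neg_distrib]

theorem refl1_inj {v w : Fin n → ZMod 3} (hv : dot v v = 1) (hw : dot w w = 1)
    (h : refl1 v hv = refl1 w hw) : v = w ∨ v = -w := by
  have e := congrArg (fun g => matr g *ᵥ v) h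
  simp only [refl1_mulVec] at e
  have e' : ∀ i, v i + 1 * v i = v i + dot w v * w i := fun i => by
    have := congrFun e i
    simpa only [reflVec, hv] using this
  have hv0 : ∃ i, v i ≠ 0 := by
    by_contra hc
    push Not at hc
    exact one_ne_zero (hv.symm.trans (Finset.sum_eq_zero fun i _ => by rw [hc i, zero_mul]))
  obtain ⟨i, hi⟩ := hv0
  rcases (show ∀ c : ZMod 3, c = 0 ∨ c = 1 ∨ c = -1 by decide) (dot w v) with hc | hc | hc
  · exfalso
    have := e' i
    rw [hc] at this
    revert this hi
    generalize v i = a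
    generalize w i = b
    revert a b
    decide
  · left; funext j
    have := e' j
    rw [hc] at this
    exact (one_mul _).symm.trans ((add_left_cancel this).trans (one_mul _))
  · right; funext j
    have := e' j
    rw [hc] at this
    show v j = -w j
    rw [← neg_one_mul (w j)]
    exact (one_mul _).symm.trans (add_left_cancel this)

theorem mem_reflectionsOfNorm (g : Cfsg.isometryGroup (ZMod 3) (⇑(sumSq n))) :
    g ∈ Cfsg.reflectionsOfNorm (⇑(sumSq n)) 1 ↔ ∃ v, ∃ hv : dot v v = 1, g = refl1 v hv := by
  constructor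
  · rintro ⟨v, hv, hg⟩
    rw [sumSq_eq_dot] at hv
    exact ⟨v, hv, Subtype.ext (Units.ext (hg.trans (refl1_matrix v hv).symm))⟩
  · rintro ⟨v, hv, rfl⟩
    exact ⟨v, (sumSq_eq_dot v).trans hv, refl1_matrix v hv⟩

/-- A vector from its ternary code. -/
def vecOf (n : ℕ) (c : ℕ) : Fin n → ZMod 3 := fun i => ((c / 3 ^ (i : ℕ) % 3 : ℕ) : ZMod 3)

theorem exists_code (v : Fin n → ZMod 3) : ∃ c < 3 ^ n, vecOf n c = v := by
  let v' : Fin n → Fin 3 := v
  refine ⟨finFunctionFinEquiv v', (finFunctionFinEquiv v').2, ?_⟩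
  funext i
  have h := congrArg Fin.val (congrFun (finFunctionFinEquiv.symm_apply_apply v') i)
  rw [finFunctionFinEquiv_symm_apply_val] at h
  show ((((finFunctionFinEquiv v' : Fin (3 ^ n)) : ℕ) / 3 ^ (i : ℕ) % 3 : ℕ) : ZMod 3) = v i
  rw [h]
  exact ZMod.natCast_zmod_val (v i)

end CfsgLib.Spor.FischerTypes
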