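/-
Reading the tables of a conjugation isomorphism; the quotient by the centre along an isomorphism.
-/
import Cfsg.Agent.Lib.Spor.TC.Orbit
import Cfsg.Agent.Lib.Spor.RackQuot

set_option autoImplicit false

namespace CfsgLib.Spor.FischerTypes

open CfsgLib.Spor.TC

/-- The image of an index under one of the chosen members. -/
noncomputable def fN (fs : List Tbl) (k i : ℕ) : ℕ := (fs.getD k .none).get 16 i

/-- Each index above the chosen ones is reached from a smaller one. -/
noncomputable def parOK (fs : List Tbl) (par : Tbl) (K : ℕ) (i : ℕ) : Bool :=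
  Nat.blt i K || (Nat.blt (Nat.shiftRight (par.get 24 i) 16) K && Nat.blt (Nat.land (par.get 24 i) 65535) i &&
    Nat.beq (fN fs (Nat.shiftRight (par.get 24 i) 16) (Nat.land (par.get 24 i) 65535)) i)

/-- The table as a map of indices. -/
noncomputable def fFin (fs : List Tbl) {N K : ℕ} (hN : 0 < N) (k : Fin K) (i : Fin N) : Fin N :=
  ⟨fN fs k i % N, Nat.mod_lt _ hN⟩

theorem fFin_val {fs : List Tbl} {N K : ℕ} (hN : 0 < N) {k : Fin K} {i : Fin N} (h : fN fs k i < N) :
    (fFin fs hN k i : ℕ) = fN fs k i := Nat.mod_eq_of_lt h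

/-- The inclusion of the chosen members. -/
def inc {N K : ℕ} (h : K ≤ N) (k : Fin K) : Fin N := ⟨k, lt_of_lt_of_le k.2 h⟩

theorem reach_of_parOK {fs : List Tbl} {par : Tbl} {N K : ℕ} (hK : K ≤ N) (hN : 0 < N)
    (h : ∀ i, i < N → parOK fs par K i = true) (p : Fin N → Prop) (h0 : ∀ k : Fin K, p (inc hK k))
    (hs : ∀ (k : Fin K) i, p i → p (fFin fs hN k i)) (i : Fin N) : p i := by
  obtain ⟨i, hi⟩ := i
  induction i using Nat.strong_induction_on with
  | _ i ih =>
    have hp := h i hi
    simp only [parOK, Bool.or_eq_true, Bool.and_eq_true, Nat.blt_eq] at hp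
    rcases hp with hlt | ⟨⟨hk, hh⟩, he⟩
    · exact h0 ⟨i, hlt⟩
    · have := hs ⟨_, hk⟩ _ (ih _ hh (hh.trans hi))
      convert this using 1
      refine Fin.ext ?_
      rw [fFin_val hN (by rw [Nat.eq_of_beq_eq_true he]; exact hi)]
      exact (Nat.eq_of_beq_eq_true he).symm

theorem map_center {G H : Type*} [Group G] [Group H] (e : G ≃* H) :
    (Subgroup.center G).map e.toMonoidHom = Subgroup.center H := by
  ext x
  rw [Subgroup.mem_map_equiv, Subgroup.mem_center_iff, Subgroup.mem_center_iff]
  refine ⟨fun h g => ?_, fun h g => ?_⟩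
  · have := congrArg e (h (e.symm g))
    simpa using this
  · have := congrArg e.symm (h (e g))
    simpa using this

/-- The quotients by the centres of isomorphic groups. -/
noncomputable def quotCenterCongr {G H : Type*} [Group G] [Group H] (e : G ≃* H) :
    G ⧸ Subgroup.center G ≃* H ⧸ Subgroup.center H :=
  QuotientGroup.congr _ _ e (map_center e)

theorem quotCenterCongr_mk {G H : Type*} [Group G] [Group H] (e : G ≃* H) (g : G) :
    quotCenterCongr e (QuotientGroup.mk g) = QuotientGroup.mk (e g) := rfl

end CfsgLib.Spor.FischerTypes
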