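/-
A list of vectors of norm one, one for each pair of opposite ones, as a family of reflections.
-/
import Cfsg.Agent.Lib.Spor.FischerTypes.ReflThree
import Cfsg.Agent.Lib.Spor.FischerTypes.Tables

set_option autoImplicit false

namespace CfsgLib.Spor.FischerTypes

open CfsgLib.Spor.TC

/-- The code of the opposite vector, computed digit by digit. -/
def negCode : ℕ → ℕ → ℕ
  | 0, _ => 0
  | n + 1, c => (3 - c % 3) % 3 + 3 * negCode n (c / 3)

theorem vecOf_inj {n c d : ℕ} (hc : c < 3 ^ n) (hd : d < 3 ^ n) (h : vecOf n c = vecOf n d) : c = d := by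
  have e : finFunctionFinEquiv.symm (⟨c, hc⟩ : Fin (3 ^ n)) = finFunctionFinEquiv.symm ⟨d, hd⟩ := by
    funext i
    refine Fin.ext ?_
    rw [finFunctionFinEquiv_symm_apply_val, finFunctionFinEquiv_symm_apply_val]
    have h1 := congrArg ZMod.val (congrFun h i)
    simp only [vecOf, ZMod.val_natCast, Nat.mod_mod] at h1
    exact h1
  exact congrArg Fin.val (finFunctionFinEquiv.symm.injective e)

/-- The code of a member. -/
noncomputable def cN (ot : Tbl) (i : ℕ) : ℕ := ot.get 16 i

/-- What is checked of a code. -/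
noncomputable def codeOK (n : ℕ) (ot : Tbl) (N i : ℕ) : Bool :=
  Nat.blt (cN ot i) (3 ^ n) && decide (dot (vecOf n (cN ot i)) (vecOf n (cN ot i)) = 1) &&
    decide (-vecOf n (cN ot i) = vecOf n (negCode n (cN ot i))) && Nat.blt (negCode n (cN ot i)) (3 ^ n) &&
    (List.range N).all fun j => Nat.beq j i || (!(Nat.beq (cN ot j) (cN ot i)) && !(Nat.beq (cN ot j) (negCode n (cN ot i))))

/-- Every vector of norm one is listed up to sign. -/
noncomputable def coverOK (n : ℕ) (ot : Tbl) (N c : ℕ) : Bool :=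
  !(decide (dot (vecOf n c) (vecOf n c) = 1)) ||
    (List.range N).any fun i => Nat.beq (cN ot i) c || Nat.beq (negCode n (cN ot i)) c

/-- The conjugation table is the one of the reflections. -/
noncomputable def stepOK (n : ℕ) (ot : Tbl) (fs : List Tbl) (N k i : ℕ) : Bool :=
  Nat.blt (fN fs k i) N &&
    (decide (reflVec (vecOf n (cN ot k)) (vecOf n (cN ot i)) = vecOf n (cN ot (fN fs k i))) ||
      decide (reflVec (vecOf n (cN ot k)) (vecOf n (cN ot i)) = -vecOf n (cN ot (fN fs k i))))

variable {n : ℕ} {ot : Tbl} {fs : List Tbl} {N K : ℕ}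

theorem dot_code (h : ∀ i, i < N → codeOK n ot N i = true) (i : Fin N) :
    dot (vecOf n (cN ot i)) (vecOf n (cN ot i)) = 1 := by
  have := h i i.2
  simp only [codeOK, Bool.and_eq_true] at this
  exact of_decide_eq_true this.1.1.1.2

/-- The family of reflections. -/
noncomputable def reflFam (h : ∀ i, i < N → codeOK n ot N i = true) (i : Fin N) :
    Cfsg.isometryGroup (ZMod 3) (⇑(sumSq n)) :=
  refl1 (vecOf n (cN ot i)) (dot_code h i)

theorem reflFam_inj (h : ∀ i, i < N → codeOK n ot N i = true) : Function.Injective (reflFam h) := by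
  intro i j e
  by_contra hne
  have hi := h i i.2
  have hj := h j j.2
  simp only [codeOK, Bool.and_eq_true, List.all_eq_true, List.mem_range, Bool.or_eq_true, Bool.not_eq_true',
    Nat.blt_eq] at hi hj
  obtain ⟨⟨⟨⟨hlt, -⟩, hneg⟩, hnlt⟩, hall⟩ := hj
  have hcmp := (hall i i.2).resolve_left fun hb => hne (Fin.ext (Nat.eq_of_beq_eq_true hb))
  rcases refl1_inj _ _ e with h1 | h1
  · exact absurd hcmp.1 (by rw [vecOf_inj hi.1.1.1.1 hlt h1, Nat.beq_refl]; decide)
  · rw [of_decide_eq_true hneg] at h1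
    exact absurd hcmp.2 (by rw [vecOf_inj hi.1.1.1.1 hnlt h1, Nat.beq_refl]; decide)

theorem range_reflFam (h : ∀ i, i < N → codeOK n ot N i = true) (hc : ∀ c, c < 3 ^ n → coverOK n ot N c = true) :
    Set.range (reflFam h) = Cfsg.reflectionsOfNorm (⇑(sumSq n)) 1 := by
  ext g
  rw [mem_reflectionsOfNorm]
  constructor
  · rintro ⟨i, rfl⟩
    exact ⟨_, dot_code h i, rfl⟩
  · rintro ⟨v, hv, rfl⟩
    obtain ⟨c, hlt, rfl⟩ := exists_code v
    have := hc c hlt
    simp only [coverOK, Bool.or_eq_true, Bool.not_eq_true', decide_eq_false_iff_not, List.any_eq_true,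
      List.mem_range] at this
    obtain ⟨i, hi, he⟩ := this.resolve_left fun hn => hn hv
    refine ⟨⟨i, hi⟩, ?_⟩
    rcases he with he | he
    · have e := Nat.eq_of_beq_eq_true he
      subst e
      rfl
    · have e := Nat.eq_of_beq_eq_true he
      subst e
      have hi' := h i hi
      simp only [codeOK, Bool.and_eq_true] at hi'
      have hn := of_decide_eq_true hi'.1.1.2
      have key : ∀ w : Fin n → ZMod 3, ∀ hw : dot w w = 1, w = -vecOf n (cN ot i) → refl1 w hw = refl1 _ (dot_code h ⟨i, hi⟩) := by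
        intro w hw e
        subst e
        exact refl1_neg _ _ hw
      exact (key _ hv hn.symm).symm

theorem reflFam_conj (h : ∀ i, i < N → codeOK n ot N i = true) (hN : 0 < N) (hK : K ≤ N)
    (hs : ∀ k, k < K → ∀ i, i < N → stepOK n ot fs N k i = true) (k : Fin K) (i : Fin N) :
    reflFam h (inc hK k) * reflFam h i * (reflFam h (inc hK k))⁻¹ = reflFam h (fFin fs hN k i) := by
  have := hs k k.2 i i.2
  simp only [stepOK, Bool.and_eq_true, Bool.or_eq_true, Nat.blt_eq] at this
  obtain ⟨hlt, he⟩ := this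
  have hv := dot_code h (inc hK k)
  have hw := dot_code h i
  have hu : dot (reflVec (vecOf n (cN ot (inc hK k))) (vecOf n (cN ot i)))
      (reflVec (vecOf n (cN ot (inc hK k))) (vecOf n (cN ot i))) = 1 := by rw [dot_reflVec _ _ _ hv, hw]
  refine (refl1_conj _ _ hv hw hu).trans ?_
  have hf : (fFin fs hN k i : ℕ) = fN fs k i := fFin_val hN hlt
  have key : ∀ u w : Fin n → ZMod 3, ∀ (hu : dot u u = 1) (hw : dot w w = 1), (u = w ∨ u = -w) → refl1 u hu = refl1 w hw := by
    rintro u w hu hw (rfl | rfl)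
    · rfl
    · exact refl1_neg w hw hu
  refine key _ _ _ _ ?_
  rw [hf]
  exact he.imp of_decide_eq_true of_decide_eq_true

/-- The groups generated by the two families, modulo their centres. -/
theorem proj_of_tables {G : Type*} [Group G] (a : Fin N → G) (ha : Function.Injective a) {par : Tbl}
    (hN : 0 < N) (hK : K ≤ N) (hpar : ∀ i, i < N → parOK fs par K i = true)
    (h : ∀ i, i < N → codeOK n ot N i = true) (hc : ∀ c, c < 3 ^ n → coverOK n ot N c = true)
    (hs : ∀ k, k < K → ∀ i, i < N → stepOK n ot fs N k i = true)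
    (hfa : ∀ (k : Fin K) i, a (inc hK k) * a i * (a (inc hK k))⁻¹ = a (fFin fs hN k i))
    {μ : ZMod 3} (hμ : (2 : ZMod 3) ^ n = μ) :
    Cfsg.IsProjReflectionGroupModThree
      (↥(Subgroup.closure (Set.range a)) ⧸ Subgroup.center ↥(Subgroup.closure (Set.range a))) n μ 1 := by
  obtain ⟨e, -⟩ := RackQuot.closure_quotient_equiv a (reflFam h) ha (reflFam_inj h) (inc hK) (fFin fs hN)
    (reach_of_parOK hK hN hpar) hfa (reflFam_conj h hN hK hs)
  have hcl : Subgroup.closure (Set.range (reflFam h)) = Cfsg.reflectionSubgroup (⇑(sumSq n)) 1 := by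
    rw [range_reflFam h hc]; rfl
  exact ⟨sumSq n, nondeg, gram_det.trans hμ, ⟨e.trans (quotCenterCongr (MulEquiv.subgroupCongr hcl))⟩⟩

end CfsgLib.Spor.FischerTypes
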