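/-
Primitivity on a class named by points, from the suborbits; types along isomorphisms.
-/
import Cfsg.Agent.Lib.Spor.TC.Criteria
import Cfsg.Agent.Lib.Spor.FischerTypes.Tables
import Cfsg.Prelude.Def_FischerSpaces

set_option autoImplicit false

namespace CfsgLib.Spor.FischerTypes

open CfsgLib.Spor.TC MulAction

theorem primitive_of_suborbits {G α : Type*} [Group G] [MulAction G α] [Finite α] {H : Subgroup G} {r : ℕ}
    (S : Suborbits G H α r) {i₀ : Fin r} (hi0 : (i₀ : ℕ) = 0) (hrep : S.rep i₀ = S.a)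
    (hsum : NoBlockSum S.size (Nat.card α)) (t : α → G) (hinj : Function.Injective t)
    (hconj : ∀ g p, g * t p * g⁻¹ = t (g • p)) {x y : α} (hxy : x ≠ y) :
    Cfsg.IsPrimitiveUnderConj (Set.range t) := by
  refine ⟨?_, ⟨t x, ⟨x, rfl⟩, t y, ⟨y, rfl⟩, fun e => hxy (hinj e)⟩, fun B hB hblock => ?_⟩
  · rintro _ ⟨p, rfl⟩ _ ⟨q, rfl⟩
    obtain ⟨g, rfl⟩ := S.trans p
    obtain ⟨k, rfl⟩ := S.trans q
    exact ⟨k * g⁻¹, by rw [hconj, mul_smul, inv_smul_smul]⟩
  by_cases hne : B.Nonempty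
  swap
  · rw [Set.not_nonempty_iff_eq_empty] at hne
    exact Or.inl (hne ▸ Set.subsingleton_empty)
  obtain ⟨b, hb⟩ := hne
  obtain ⟨p, rfl⟩ := hB hb
  obtain ⟨g₀, hg₀⟩ := S.trans p
  let C : Set α := {q | t (g₀ • q) ∈ B}
  have ha : S.a ∈ C := by
    show t (g₀ • S.a) ∈ B
    rw [hg₀]; exact hb
  let f : G → Set G → Set G := fun g X => (fun z => g * z * g⁻¹) '' X
  have hC : ∀ g : G, ∀ q ∈ C, g • q ∈ C → ∀ q' ∈ C, g • q' ∈ C := by
    intro g q hq hgq q' hq'
    have hmem : t (g₀ • g • q) ∈ f (g₀ * g * g₀⁻¹) B := ⟨t (g₀ • q), hq, by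
      show g₀ * g * g₀⁻¹ * t (g₀ • q) * (g₀ * g * g₀⁻¹)⁻¹ = _
      rw [hconj, mul_smul, mul_smul, inv_smul_smul]⟩
    have heq := (hblock (g₀ * g * g₀⁻¹)).resolve_right fun hd => Set.disjoint_left.1 hd hmem hgq
    have h2 : t (g₀ • g • q') ∈ f (g₀ * g * g₀⁻¹) B := ⟨t (g₀ • q'), hq', by
      show g₀ * g * g₀⁻¹ * t (g₀ • q') * (g₀ * g * g₀⁻¹)⁻¹ = _
      rw [hconj, mul_smul, mul_smul, inv_smul_smul]⟩
    show t (g₀ • g • q') ∈ B
    rw [show f (g₀ * g * g₀⁻¹) B = B from heq] at h2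
    exact h2
  let K : Subgroup G :=
    { carrier := {g | g • S.a ∈ C}
      one_mem' := by show (1 : G) • S.a ∈ C; rw [one_smul]; exact ha
      mul_mem' := fun {g k} hg hk => by
        show (g * k) • S.a ∈ C
        rw [mul_smul]
        exact hC g S.a ha hg _ hk
      inv_mem' := fun {g} hg => by
        show g⁻¹ • S.a ∈ C
        exact hC g⁻¹ (g • S.a) hg (by rw [inv_smul_smul]; exact ha) S.a ha }
  have hK : H ≤ K := fun h hh => by
    show h • S.a ∈ C
    rw [(S.mem_iff h).2 hh]; exact ha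
  rcases S.maximal hi0 hrep hsum hK with h | h
  · left
    have key : ∀ z ∈ B, z = t (g₀ • S.a) := by
      intro z hz
      obtain ⟨q, rfl⟩ := hB hz
      obtain ⟨g, hg⟩ := S.trans (g₀⁻¹ • q)
      have hmem : g ∈ K := by
        show t (g₀ • g • S.a) ∈ B
        rw [hg, smul_inv_smul]; exact hz
      rw [h] at hmem
      have e := (S.mem_iff g).2 hmem
      rw [e] at hg
      rw [hg, smul_inv_smul]
    exact fun a ha' b hb' => (key a ha').trans (key b hb').symm
  · right
    refine Set.Subset.antisymm hB ?_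
    rintro _ ⟨q, rfl⟩
    obtain ⟨g, hg⟩ := S.trans (g₀⁻¹ • q)
    have hmem : g ∈ K := h ▸ Subgroup.mem_top g
    have : t (g₀ • g • S.a) ∈ B := hmem
    rwa [hg, smul_inv_smul] at this

/-- The members of a class commuting with a given one, other than it. -/
abbrev perpSet {G : Type*} [Group G] (D : Set G) (d : G) : Set G := {y : G | y ∈ D ∧ y ≠ d ∧ Commute d y}

theorem image_perpSet {G G' : Type*} [Group G] [Group G'] (e : G ≃* G') (D : Set G) (d : G) :
    e '' perpSet D d = perpSet (e '' D) (e d) := by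
  ext y
  constructor
  · rintro ⟨x, ⟨h1, h2, h3⟩, rfl⟩
    exact ⟨⟨x, h1, rfl⟩, fun h => h2 (e.injective h), h3.map e.toMonoidHom⟩
  · rintro ⟨⟨x, h1, rfl⟩, h2, h3⟩
    refine ⟨x, ⟨h1, fun h => h2 (h ▸ rfl), ?_⟩, rfl⟩
    have := h3.map e.symm.toMonoidHom
    simpa using this

theorem center_bot_of_equiv {G G' : Type*} [Group G] [Group G'] (e : G ≃* G')
    (h : Subgroup.center G = ⊥) : Subgroup.center G' = ⊥ := by
  rw [← map_center e, h, Subgroup.map_bot]

/-- The subgroups generated by two sets that correspond. -/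
noncomputable def closureEquiv {G G' : Type*} [Group G] [Group G'] (e : G ≃* G') {S : Set G} {S' : Set G'}
    (h : e '' S = S') : ↥(Subgroup.closure S) ≃* ↥(Subgroup.closure S') :=
  (e.subgroupMap (Subgroup.closure S)).trans (MulEquiv.subgroupCongr (by
    rw [MonoidHom.map_closure]; exact congrArg Subgroup.closure h))

theorem closureEquiv_coe {G G' : Type*} [Group G] [Group G'] (e : G ≃* G') {S : Set G} {S' : Set G'}
    (h : e '' S = S') (x : ↥(Subgroup.closure S)) : (closureEquiv e h x : G') = e x := rfl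

theorem projRefl_congr {X Y : Type*} [Group X] [Group Y] {n : ℕ} {μ c : ZMod 3} (e : Y ≃* X)
    (h : Cfsg.IsProjReflectionGroupModThree X n μ c) : Cfsg.IsProjReflectionGroupModThree Y n μ c := by
  obtain ⟨Q, h1, h2, ⟨f⟩⟩ := h
  exact ⟨Q, h1, h2, ⟨e.trans f⟩⟩

theorem m22_congr {G G' : Type*} [Group G] [Group G'] (e : G ≃* G') {D : Set G} {D' : Set G'}
    (hD : e '' D = D') (h : Cfsg.IsOfTypeM22 G D) : Cfsg.IsOfTypeM22 G' D' := by
  subst hD
  obtain ⟨hz, d, hd, c, hc, hdc, ⟨F, _, _, hF, ⟨f⟩⟩, c₃, hc₃, hL⟩ := h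
  refine ⟨center_bot_of_equiv e hz, e d, ⟨d, hd, rfl⟩, e c, ⟨c, hc, rfl⟩, fun hh => hdc ?_, ?_, c₃, hc₃, ?_⟩
  · have := hh.map e.symm.toMonoidHom
    simpa using this
  · exact ⟨F, inferInstance, inferInstance, hF,
      ⟨(quotCenterCongr (closureEquiv e (image_perpSet e D d))).symm.trans f⟩⟩
  · refine projRefl_congr (quotCenterCongr (closureEquiv e ?_)).symm hL
    rw [Set.image_inter e.injective]
    exact congrArg₂ (· ∩ ·) (image_perpSet e D d) (image_perpSet e D c)

/-- The classes in the quotients by centres of two corresponding subgroups correspond. -/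
theorem image_quotient_class {G G' : Type*} [Group G] [Group G'] (e : G ≃* G') {S : Set G} {S' : Set G'}
    (h : e '' S = S') :
    quotCenterCongr (closureEquiv e h) ''
        ((QuotientGroup.mk : ↥(Subgroup.closure S) → _) '' {x : ↥(Subgroup.closure S) | (x : G) ∈ S}) =
      (QuotientGroup.mk : ↥(Subgroup.closure S') → _) '' {x : ↥(Subgroup.closure S') | (x : G') ∈ S'} := by
  rw [Set.image_image]
  ext y
  constructor
  · rintro ⟨x, hx, rfl⟩
    exact ⟨closureEquiv e h x, by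
      show (closureEquiv e h x : G') ∈ S'
      rw [closureEquiv_coe, ← h]; exact ⟨_, hx, rfl⟩, (quotCenterCongr_mk _ _).symm⟩
  · rintro ⟨x', hx', rfl⟩
    have hx : (x' : G') ∈ e '' S := h ▸ hx'
    obtain ⟨x, hx, hxe⟩ := hx
    refine ⟨⟨x, Subgroup.subset_closure hx⟩, hx, (quotCenterCongr_mk _ _).trans ?_⟩
    exact congrArg _ (Subtype.ext ((closureEquiv_coe e h _).trans hxe))

theorem m23_congr {G G' : Type*} [Group G] [Group G'] (e : G ≃* G') {D : Set G} {D' : Set G'}
    (hD : e '' D = D') (h : Cfsg.IsOfTypeM23 G D) : Cfsg.IsOfTypeM23 G' D' := by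
  subst hD
  obtain ⟨hz, d, hd, c, hc, hdc, h22, c₃, hc₃, hL⟩ := h
  refine ⟨center_bot_of_equiv e hz, e d, ⟨d, hd, rfl⟩, e c, ⟨c, hc, rfl⟩, fun hh => hdc ?_, ?_, c₃, hc₃, ?_⟩
  · have := hh.map e.symm.toMonoidHom
    simpa using this
  · exact m22_congr _ (image_quotient_class e (image_perpSet e D d)) h22
  · refine projRefl_congr (quotCenterCongr (closureEquiv e ?_)).symm hL
    rw [Set.image_inter e.injective]
    exact congrArg₂ (· ∩ ·) (image_perpSet e D d) (image_perpSet e D c)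

end CfsgLib.Spor.FischerTypes
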