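/-
The presented Fischer group on 3510 points is of type M(22).
-/
import Cfsg.Agent.Lib.Spor.Fi22Out.Points
import Cfsg.Agent.Lib.Spor.Fi22.U6.Class
import Cfsg.Agent.Lib.Spor.FischerTypes.ReflTables
import Cfsg.Agent.Lib.Spor.FischerTypes.DataM22
import Cfsg.Agent.Lib.Spor.FischerTypes.Prim

set_option autoImplicit false

namespace CfsgLib.Spor.FischerTypes.M22

open CfsgLib.Spor.TC CfsgLib.Spor.Fi22 CfsgLib.Spor.Fi22Out MulAction

set_option maxRecDepth 100000

noncomputable section

attribute [local instance] actionH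

/-- The class. -/
def cls : Set Gp := Set.range trp

theorem zee_let : zee = let' 0 :=
  (Act.letters_of_lt (A := ActH.act) (rels := relsG) (show 0 < ActH.act.k by decide +kernel)).symm

theorem gpt1_ne : gpt 1 ≠ pt0 := fun h => by
  have := congrArg Fin.val h
  exact absurd this (show ptN 1 ≠ 0 by decide +kernel)

theorem not_comm : ¬ Commute (trp pt0) (trp (gpt 1)) := by
  rw [commute_trp_iff, trp_pt0, zee_let]
  intro h
  have h' := (let_smul (x := 0) (by decide +kernel) (gpt 1)).symm.trans (congrArg Fin.val h)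
  exact absurd h' (show ¬ ActH.act.T 0 (ptN 1) = ptN 1 by decide +kernel)

theorem center_eq : Subgroup.center Gp = ⊥ := by
  rw [Subgroup.eq_bot_iff_forall]
  intro c hc
  refine faithful fun p => trp_inj ?_
  rw [← conj_trp, ← Subgroup.mem_center_iff.1 hc, mul_inv_cancel_right]

theorem closure_cls : Subgroup.closure cls = ⊤ := by
  rw [eq_top_iff, ← closure_presGen ActH.act.k relsG]
  refine Subgroup.closure_mono ?_
  rintro _ ⟨x, hx, rfl⟩
  exact ⟨gpt x, (gens_eq x hx).symm⟩

theorem product_three_trp (p : Pt) : (zee * trp p) ^ 2 = 1 ∨ (zee * trp p) ^ 3 = 1 := by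
  obtain ⟨g, hg⟩ := trans_pt p
  rw [trp_eq hg]
  exact U6.product_three g

theorem three_class : Cfsg.IsThreeTranspositionClass cls := by
  refine ⟨⟨?_, ?_⟩, ⟨zee, ⟨pt0, trp_pt0⟩, ?_⟩, closure_cls⟩
  · rintro _ ⟨p, rfl⟩
    exact orderOf_eq_prime (by rw [pow_two, trp_sq]) (trp_ne_one p)
  · rintro _ ⟨p, rfl⟩ _ ⟨q, rfl⟩
    obtain ⟨g, hg⟩ := trans_pt p
    have e : g * (zee * trp (g⁻¹ • q)) * g⁻¹ = trp p * trp q := by
      rw [← conj_trp g⁻¹ q, trp_eq hg]
      group
    rw [← e, conj_pow, conj_pow]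
    rcases product_three_trp (g⁻¹ • q) with h | h
    · left; rw [h, mul_one, mul_inv_cancel]
    · right; rw [h, mul_one, mul_inv_cancel]
  · ext x
    show x ∈ cls ↔ IsConj zee x
    rw [isConj_iff]
    exact ⟨fun ⟨p, hp⟩ => by
      obtain ⟨g, hg⟩ := trans_pt p
      exact ⟨g, (trp_eq hg).symm.trans hp⟩, fun ⟨g, hg⟩ => ⟨g • pt0, (trp_eq rfl).trans hg⟩⟩

theorem primitive : Cfsg.IsPrimitiveUnderConj cls := by
  obtain ⟨S, h0, ⟨e0, e1, e2⟩, hrep⟩ := exists_suborbitsH
  refine primitive_of_suborbits S (i₀ := 0) rfl hrep ?_ trp (fun _ _ => trp_inj) conj_trp gpt1_ne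
  have hsz : S.size = fun i => [1, 2816, 693].get i := by
    funext i
    fin_cases i
    exacts [e0, e1, e2]
  rw [Nat.card_fin, hsz]
  decide +kernel

theorem commute_zee_mem {y : Gp} (hy : y ∈ cls) (hc : Commute zee y) : y ∈ subH := by
  rw [← centralizer_zee, Subgroup.mem_centralizer_singleton_iff]
  exact hc.symm.eq

theorem letter_perp {x : ℕ} (hx : x ∈ [2, 3, 4, 5, 6, 7, 8]) : let' x ∈ perpSet cls zee := by
  have hx9 : x < 9 := (show ∀ y ∈ [2, 3, 4, 5, 6, 7, 8], y < 9 by decide) x hx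
  refine ⟨⟨gpt x, (letters_trp x hx9).symm⟩, fun h => ?_, ?_⟩
  · rw [letters_trp x hx9, ← trp_pt0] at h
    exact absurd (congrArg Fin.val (trp_inj h)) ((show ∀ y ∈ [2, 3, 4, 5, 6, 7, 8], ptN y ≠ 0 by decide +kernel) x hx)
  · have hm : let' x ∈ subH := U6.mem_subH ((show ∀ y ∈ [2, 3, 4, 5, 6, 7, 8], y ∈ U6.gensH' by decide) x hx)
    rw [← centralizer_zee, Subgroup.mem_centralizer_singleton_iff] at hm
    exact hm.symm

/-- The word to the point of the tenth letter. -/
def nineW : List ℕ := [5, 4, 3, 7, 2, 3, 4, 1, 2, 3, 7, 5, 4, 3, 2, 1]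

theorem nine_check : Nat.beq (ActH.act.wact nineW 0) 437 = true ∧
    allFrom (fun c => Nat.beq (ActH.act.wact [9] c) (ActH.act.wact (nineW ++ 0 :: nineW.reverse) c)) 0 3510 = true := by
  decide +kernel

theorem nine_perp : let' 9 ∈ perpSet cls zee := by
  obtain ⟨hp, hall⟩ := nine_check
  have h9 : let' 9 = trp (⟨437, by decide +kernel⟩ : Pt) := by
    rw [trp_word (u := nineW) (by decide +kernel) (Nat.eq_of_beq_eq_true hp)]
    refine Eq.trans (by simp [el, let', ev]) (el_eq (w := [9]) (by decide +kernel) (by decide +kernel) fun c => ?_)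
    have := c.2
    change (c : ℕ) < 3510 at this
    exact Nat.eq_of_beq_eq_true (allFrom_spec hall c (Nat.zero_le _) (by omega))
  refine ⟨⟨_, h9.symm⟩, fun h => ?_, ?_⟩
  · rw [h9, ← trp_pt0] at h
    exact absurd (congrArg Fin.val (trp_inj h)) (by decide +kernel)
  · have hm : let' 9 ∈ subH := U6.mem_subH (show 9 ∈ U6.gensH' by decide)
    rw [← centralizer_zee, Subgroup.mem_centralizer_singleton_iff] at hm
    exact hm.symm

theorem closure_perp : Subgroup.closure (perpSet cls zee) = subH := by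
  refine le_antisymm ((Subgroup.closure_le _).2 fun y hy => commute_zee_mem hy.1 hy.2.2) ?_
  have hgen : ∀ x ∈ [2, 3, 4, 5, 6, 7, 8, 9], let' x ∈ Subgroup.closure (perpSet cls zee) := by
    intro x hx
    rcases (show ∀ y ∈ [2, 3, 4, 5, 6, 7, 8, 9], y ∈ [2, 3, 4, 5, 6, 7, 8] ∨ y = 9 by decide) x hx with h | rfl
    · exact Subgroup.subset_closure (letter_perp h)
    · exact Subgroup.subset_closure nine_perp
  rw [subH, Subgroup.closure_le]
  rintro _ ⟨x, hx, rfl⟩
  rcases (show ∀ y ∈ gensH, y = 0 ∨ y ∈ [2, 3, 4, 5, 6, 7, 8, 9] by decide) x hx with rfl | h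
  · have e := congrArg Subtype.val (U6.eq_of_sameOK (u := powWord U6.evenWord 5) (v := [0])
      (by decide) (by decide) U6.even_ok)
    rw [U6.ev_genH (by decide), U6.ev_genH (by decide)] at e
    have e' : let' 0 = ev (ActH.act.letters relsG) (powWord U6.evenWord 5) := by
      rw [e]; simp [ev, let']
    show let' 0 ∈ _
    rw [e']
    exact ev_mem fun y hy => hgen y ((show ∀ z ∈ powWord U6.evenWord 5, z ∈ [2, 3, 4, 5, 6, 7, 8, 9] by
      decide +kernel) y hy)
  · exact hgen x h

/-- The point of an index. -/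
def pN (i : ℕ) : ℕ := ptTbl.get 16 i

/-- What is checked of a point. -/
def ptOK (i : ℕ) : Bool :=
  Nat.blt (pN i) 3510 && Nat.beq (posTbl.get 16 (pN i)) i && Nat.beq (ActH.act.T 0 (pN i)) (pN i) &&
    Nat.beq (ActH.act.T 1 (pN i)) (pN i) && !(Nat.beq (pN i) 0) && !(Nat.beq (pN i) (ptN 1))

/-- Every common fixed point is listed. -/
def scanOK (c : ℕ) : Bool :=
  !(Nat.beq (ActH.act.T 0 c) c) || !(Nat.beq (ActH.act.T 1 c) c) || Nat.beq c 0 || Nat.beq c (ptN 1) ||
    (Nat.blt (posTbl.get 16 c) 126 && Nat.beq (pN (posTbl.get 16 c)) c)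

/-- The word of a chosen member is its transposition. -/
def wordOK (k : ℕ) : Bool :=
  match words.getD k [] with
  | [x] => Nat.blt x 9 && Nat.beq (ptN x) (pN k)
  | w => let u := w.take (w.length / 2)
    decide (w = u ++ 0 :: u.reverse) && u.all (fun x => Nat.blt x 9) && Nat.beq (ActH.act.wact u 0) (pN k)

/-- The table is the conjugation. -/
def actOK (i : ℕ) : Bool :=
  (List.range 7).all fun k => Nat.blt (fN fTbls k i) 126 &&
    Nat.beq (ActH.act.wact (words.getD k []) (pN i)) (pN (fN fTbls k i))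

theorem pt_ok : allFrom ptOK 0 126 = true := by decide +kernel
theorem scan_ok : allFrom scanOK 0 3510 = true := by decide +kernel
theorem word_ok : ∀ k < 7, wordOK k = true ∧ ∀ x ∈ words.getD k [], x < 9 := by decide +kernel
theorem act_ok : allFrom actOK 0 126 = true := by decide +kernel
theorem par_ok : allFrom (parOK fTbls parTbl 7) 0 126 = true := by decide +kernel
theorem code_ok : allFrom (codeOK 6 otherTbl 126) 0 126 = true := by decide +kernel
theorem cover_ok : allFrom (coverOK 6 otherTbl 126) 0 729 = true := by decide +kernel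
theorem step_ok : allFrom (fun i => (List.range 7).all fun k => stepOK 6 otherTbl fTbls 126 k i) 0 126 = true := by
  decide +kernel

theorem pt_spec {i : ℕ} (hi : i < 126) : ptOK i = true := allFrom_spec pt_ok i (Nat.zero_le _) (by omega)

theorem pN_lt {i : ℕ} (hi : i < 126) : pN i < ActH.act.n := by
  have h := pt_spec hi
  simp only [ptOK, Bool.and_eq_true, Nat.blt_eq] at h
  exact h.1.1.1.1.1

/-- The point of an index. -/
def pF (i : Fin 126) : Pt := ⟨pN i, pN_lt i.2⟩

/-- The transposition of an index. -/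
def fam (i : Fin 126) : Gp := trp (pF i)

theorem fam_inj : Function.Injective fam := by
  intro i j e
  have e' : pN i = pN j := congrArg Fin.val (trp_inj e)
  have hi := pt_spec i.2
  have hj := pt_spec j.2
  simp only [ptOK, Bool.and_eq_true] at hi hj
  refine Fin.ext ?_
  rw [← Nat.eq_of_beq_eq_true hi.1.1.1.1.2, e', Nat.eq_of_beq_eq_true hj.1.1.1.1.2]

theorem word_trp (k : Fin 7) : el (words.getD k []) = fam (inc (by norm_num) k) := by
  obtain ⟨hw, -⟩ := word_ok k k.2
  unfold wordOK at hw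
  split at hw
  · next x hx =>
    simp only [Bool.and_eq_true, Nat.blt_eq] at hw
    rw [hx, show el [x] = let' x by simp [el, let', ev], letters_trp x hw.1]
    exact congrArg trp (Fin.ext (Nat.eq_of_beq_eq_true hw.2))
  · next w hx =>
    simp only [Bool.and_eq_true, decide_eq_true_eq, List.all_eq_true, Nat.blt_eq] at hw
    rw [hw.1.1]
    exact (trp_word hw.1.2 (Nat.eq_of_beq_eq_true hw.2)).symm

theorem fam_conj (k : Fin 7) (i : Fin 126) :
    fam (inc (by norm_num) k) * fam i * (fam (inc (by norm_num) k))⁻¹ = fam (fFin fTbls (by norm_num) k i) := by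
  rw [← word_trp k]
  unfold fam
  rw [conj_trp]
  refine congrArg trp (Fin.ext ?_)
  have h := allFrom_spec act_ok i (Nat.zero_le _) (by omega)
  simp only [actOK, List.all_eq_true, List.mem_range, Bool.and_eq_true, Nat.blt_eq] at h
  obtain ⟨hlt, he⟩ := h k k.2
  rw [el_smul (below_K (word_ok k k.2).2)]
  show ActH.act.wact _ (pN i) = pN (fFin fTbls _ k i : Fin 126)
  rw [fFin_val (by norm_num) hlt]
  exact Nat.eq_of_beq_eq_true he

theorem range_fam : Set.range fam = perpSet cls zee ∩ perpSet cls (trp (gpt 1)) := by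
  have h0 : ∀ p : Pt, Commute zee (trp p) ↔ ActH.act.T 0 p = p := fun p => by
    rw [commute_trp_iff, zee_let, Fin.ext_iff, let_smul (by decide +kernel)]
  have h1 : ∀ p : Pt, Commute (trp (gpt 1)) (trp p) ↔ ActH.act.T 1 p = p := fun p => by
    rw [commute_trp_iff, ← letters_trp 1 (by norm_num), Fin.ext_iff, let_smul (by decide +kernel)]
  ext y
  constructor
  · rintro ⟨i, rfl⟩
    have h := pt_spec i.2
    simp only [ptOK, Bool.and_eq_true, Bool.not_eq_true'] at h
    obtain ⟨⟨⟨⟨-, t0⟩, t1⟩, n0⟩, n1⟩ := h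
    refine ⟨⟨⟨_, rfl⟩, fun e => ?_, (h0 _).2 (Nat.eq_of_beq_eq_true t0)⟩,
      ⟨⟨_, rfl⟩, fun e => ?_, (h1 _).2 (Nat.eq_of_beq_eq_true t1)⟩⟩
    · rw [← trp_pt0] at e
      have e' : pN i = 0 := congrArg Fin.val (trp_inj e)
      rw [e', Nat.beq_refl] at n0
      exact Bool.noConfusion n0
    · have e' : pN i = ptN 1 := congrArg Fin.val (trp_inj e)
      rw [e', Nat.beq_refl] at n1
      exact Bool.noConfusion n1
  · rintro ⟨⟨⟨p, rfl⟩, hne0, c0⟩, ⟨-, hne1, c1⟩⟩
    have hp := p.2
    change (p : ℕ) < 3510 at hp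
    have h := allFrom_spec scan_ok p (Nat.zero_le _) (by omega)
    simp only [scanOK, Bool.or_eq_true, Bool.not_eq_true', Bool.and_eq_true, Nat.blt_eq] at h
    rw [(h0 p).1 c0, (h1 p).1 c1, Nat.beq_refl] at h
    rcases h with (((h | h) | h) | h) | ⟨hlt, he⟩
    · exact Bool.noConfusion h
    · exact Bool.noConfusion h
    · exact absurd (trp_pt0 ▸ congrArg trp (show p = pt0 from Fin.ext (Nat.eq_of_beq_eq_true h))) hne0
    · exact absurd (congrArg trp (show p = gpt 1 from Fin.ext (Nat.eq_of_beq_eq_true h))) hne1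
    · exact ⟨⟨_, hlt⟩, congrArg trp (Fin.ext (Nat.eq_of_beq_eq_true he))⟩

theorem isOfTypeM22 : Cfsg.IsOfTypeM22 Gp cls := by
  obtain ⟨-, ⟨e⟩, -⟩ := U6.nonsplit_subH
  refine ⟨center_eq, zee, ⟨pt0, trp_pt0⟩, trp (gpt 1), ⟨_, rfl⟩, trp_pt0 ▸ not_comm, ?_, 1, one_ne_zero, ?_⟩
  · exact ⟨U6.Four, inferInstance, inferInstance, U6.Four.card_four,
      ⟨(quotCenterCongr (MulEquiv.subgroupCongr closure_perp)).trans e⟩⟩
  · refine projRefl_congr (quotCenterCongr (MulEquiv.subgroupCongr (congrArg Subgroup.closure range_fam))).symm ?_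
    exact proj_of_tables fam fam_inj (by norm_num) (by norm_num)
      (fun i hi => allFrom_spec par_ok i (Nat.zero_le _) (by omega))
      (fun i hi => allFrom_spec code_ok i (Nat.zero_le _) (by omega))
      (fun c hc => allFrom_spec cover_ok c (Nat.zero_le _) (by omega))
      (fun k hk i hi => List.all_eq_true.1 (allFrom_spec step_ok i (Nat.zero_le _) (by omega)) k
        (List.mem_range.2 hk))
      fam_conj (by decide)

end

end CfsgLib.Spor.FischerTypes.M22
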