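/-
The presented Fischer group on 31671 points is of type M(23).
-/
import Cfsg.Agent.Lib.Spor.Fi23Out.Points
import Cfsg.Agent.Lib.Spor.FischerTypes.DataM23
import Cfsg.Agent.Lib.Spor.FischerTypes.M22

set_option autoImplicit false

namespace CfsgLib.Spor.FischerTypes.M23

open CfsgLib.Spor.TC CfsgLib.Spor.Fi23 CfsgLib.Spor.Fi23Out MulAction

set_option maxRecDepth 100000

noncomputable section

attribute [local instance] actionF

/-- The class. -/
def cls : Set Gp := Set.range trp

theorem zee_let : zee = let' 10 := rfl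

theorem finite_gp : Finite Gp := Nat.finite_of_card_ne_zero (ne_of_eq_of_ne card_eq (by norm_num))

theorem not_comm : ¬ Commute (trp pt0) (trp (gpt 7)) := by
  rw [commute_trp_iff, trp_pt0, zee_let]
  intro h
  have h' := (let_smul (x := 10) (by decide +kernel) (gpt 7)).symm.trans (congrArg Fin.val h)
  exact absurd h' (show ¬ ActF.act.T 10 (ptN 7) = ptN 7 by decide +kernel)

theorem gpt7_ne : gpt 7 ≠ pt0 := fun h => not_comm (h ▸ Commute.refl _)

theorem center_eq : Subgroup.center Gp = ⊥ := by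
  rw [Subgroup.eq_bot_iff_forall]
  intro c hc
  refine faithful fun p => trp_inj ?_
  rw [← conj_trp, ← Subgroup.mem_center_iff.1 hc, mul_inv_cancel_right]

theorem three_class : Cfsg.IsThreeTranspositionClass cls := by
  refine ⟨⟨?_, ?_⟩, ⟨zee, ⟨pt0, trp_pt0⟩, ?_⟩, ?_⟩
  · rintro _ ⟨p, rfl⟩
    exact orderOf_eq_prime (by rw [pow_two, trp_sq]) (trp_ne_one p)
  · rintro _ ⟨p, rfl⟩ _ ⟨q, rfl⟩
    obtain ⟨g, hg⟩ := trans_pt p
    obtain ⟨k, hk⟩ := trans_pt (g⁻¹ • q)
    have e : g * (zee * (k * zee * k⁻¹)) * g⁻¹ = trp p * trp q := by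
      rw [← trp_eq hk, ← conj_trp g⁻¹ q, trp_eq hg]
      group
    rw [← e, conj_pow, conj_pow]
    rcases pair_orders k with h | h
    · left; rw [h, mul_one, mul_inv_cancel]
    · right; rw [h, mul_one, mul_inv_cancel]
  · ext x
    show x ∈ cls ↔ IsConj zee x
    rw [isConj_iff]
    exact ⟨fun ⟨p, hp⟩ => by
      obtain ⟨g, hg⟩ := trans_pt p
      exact ⟨g, (trp_eq hg).symm.trans hp⟩, fun ⟨g, hg⟩ => ⟨g • pt0, (trp_eq rfl).trans hg⟩⟩
  · rw [eq_top_iff, ← closure_presGen ActF.act.k relsG]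
    refine Subgroup.closure_mono ?_
    rintro _ ⟨x, hx, rfl⟩
    exact ⟨gpt x, (gens_eq x hx).symm⟩

theorem primitive : Cfsg.IsPrimitiveUnderConj cls := by
  obtain ⟨S, h0, hsz, hrep⟩ := exists_suborbitsF
  refine primitive_of_suborbits S (i₀ := 0) rfl hrep ?_ trp (fun _ _ => trp_inj) conj_trp gpt7_ne
  rw [Nat.card_fin, show S.size = fun i => [1, 28160, 3510].get i from funext hsz]
  decide +kernel

theorem letter_perp {x : ℕ} (hx : x ∈ gensH) : let' x ∈ perpSet cls zee := by
  have hx10 : x < 10 := gensH_lt x hx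
  refine ⟨⟨gpt x, (letters_trp x hx10.le).symm⟩, fun h => ?_, commute_subH (Subgroup.subset_closure ⟨x, hx, rfl⟩)⟩
  rw [letters_trp x hx10.le, ← trp_pt0] at h
  exact absurd (congrArg Fin.val (trp_inj h)) ((show ∀ y ∈ gensH, ptN y ≠ 0 by decide +kernel) x hx)

theorem closure_perp : Subgroup.closure (perpSet cls zee) = subH := by
  refine le_antisymm ((Subgroup.closure_le _).2 fun y hy => ?_) ?_
  · rw [← centralizer_zee, SetLike.mem_coe, Subgroup.mem_centralizer_singleton_iff]
    exact hy.2.2.symm.eq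
  · rw [subH, Subgroup.closure_le]
    rintro _ ⟨x, hx, rfl⟩
    exact Subgroup.subset_closure (letter_perp hx)

theorem perp_conj {h : Gp} (hh : h ∈ subH) {y : Gp} (hy : y ∈ perpSet cls zee) : h * y * h⁻¹ ∈ perpSet cls zee := by
  obtain ⟨⟨p, rfl⟩, hne, hc⟩ := hy
  have hz : h * zee * h⁻¹ = zee := by rw [(commute_subH hh).symm.eq, mul_inv_cancel_right]
  refine ⟨⟨h • p, (conj_trp h p).symm⟩, fun e => hne ?_, ?_⟩
  · rw [← hz] at e
    exact mul_left_cancel (mul_right_cancel e)
  · have := hc.map (MulAut.conj h).toMonoidHom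
    simpa [MulAut.conj_apply, hz] using this

theorem perp_orbit {y : Gp} (hy : y ∈ perpSet cls zee) : ∃ h ∈ subH, h * let' 0 * h⁻¹ = y := by
  obtain ⟨⟨p, rfl⟩, hne, hc⟩ := hy
  obtain ⟨S, h0, -, hrep⟩ := exists_suborbitsF
  have hfix : ∀ {u v : Pt}, u ∈ orbit subH v → (zee • v = v ↔ zee • u = u) := by
    rintro u v ⟨⟨h, hh⟩, rfl⟩
    show _ ↔ zee • h • v = h • v
    rw [← mul_smul, (commute_subH hh).eq, mul_smul, smul_left_cancel_iff]
  have hzero : ∀ {q : Pt} {i : Fin 3}, q ∈ orbit subH (S.rep i) → q ≠ pt0 → i ≠ 0 := by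
    rintro q i hq hne rfl
    obtain ⟨⟨h, hh⟩, rfl⟩ := hq
    refine hne ?_
    show h • S.rep 0 = pt0
    rw [hrep, (S.mem_iff h).2 hh]
    exact Fin.ext h0
  have hp0 : p ≠ pt0 := fun e => hne (by rw [e, trp_pt0])
  have hpf : zee • p = p := (commute_trp_iff _ _).1 hc
  have h00 : gpt 0 ≠ pt0 := fun e => absurd (congrArg Fin.val e) (show ptN 0 ≠ 0 by decide +kernel)
  have h0f : zee • gpt 0 = gpt 0 := by
    refine Fin.ext ?_
    rw [zee_let, let_smul (by decide +kernel)]
    exact (show ActF.act.T 10 (ptN 0) = ptN 0 by decide +kernel)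
  have h7 : ¬ zee • gpt 7 = gpt 7 := fun h => not_comm ((trp_pt0.symm ▸ (commute_trp_iff zee (gpt 7)).2 h :))
  obtain ⟨i, hi⟩ := S.cover p
  obtain ⟨j, hj⟩ := S.cover (gpt 0)
  obtain ⟨l, hl⟩ := S.cover (gpt 7)
  have hij : i = j := by
    have a1 := hzero hi hp0
    have a2 := hzero hj h00
    have a3 := hzero hl gpt7_ne
    have b1 : i ≠ l := fun e => h7 ((hfix hl).1 (e ▸ (hfix hi).2 hpf))
    have b2 : j ≠ l := fun e => h7 ((hfix hl).1 (e ▸ (hfix hj).2 h0f))
    omega
  subst hij
  have h2 : p ∈ orbit subH (gpt 0) := (orbit_eq_iff.2 hj).symm ▸ hi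
  obtain ⟨⟨h, hh⟩, e⟩ := h2
  exact ⟨h, hh, by rw [letters_trp 0 (by norm_num), conj_trp]; exact congrArg trp e⟩

/-- The cover onto the smaller group. -/
def pi : Pres 9 relsH →* Fi22Out.Gp :=
  presHom (show Sat 9 relsH (presGen 9 Fi22.relsG) from
    ⟨(sat_presGen 9 Fi22.relsG).sq, (sat_presGen 9 Fi22.relsG).out,
      fun r hr => (sat_presGen 9 Fi22.relsG).rel r (relsH_sub r hr)⟩)

theorem pi_gen (x : ℕ) : pi (presGen 9 relsH x) = presGen 9 Fi22.relsG x := presHom_gen _ x

theorem pi_surjective : Function.Surjective pi := presHom_surjective _ (closure_presGen 9 Fi22.relsG)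

theorem pi_ker : pi.ker = Subgroup.center (Pres 9 relsH) := by
  obtain ⟨hc, -, -⟩ := nonsplit
  haveI : Finite (Pres 9 relsH) := Nat.finite_of_card_ne_zero card_le_cover.1
  have hk : Nat.card pi.ker = 2 := by
    have h := pi.ker.card_mul_index
    rw [Subgroup.index_ker, MonoidHom.range_eq_top.2 pi_surjective, Subgroup.card_top, card_nine.1,
      show Nat.card Fi22Out.Gp = 64561751654400 from Fi22.card_fi22] at h
    exact Nat.eq_of_mul_eq_mul_right (show 0 < 64561751654400 by norm_num) (h.trans (by norm_num))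
  refine Subgroup.eq_of_le_of_card_ge (fun z hz => ?_) (by rw [hk, hc])
  obtain ⟨v, -, hv⟩ := (Nat.card_eq_two_iff' (⟨1, one_mem _⟩ : pi.ker)).1 hk
  rw [Subgroup.mem_center_iff]
  intro g
  by_cases h1 : z = 1
  · rw [h1, one_mul, mul_one]
  · have e1 := hv ⟨z, hz⟩ fun e => h1 (congrArg Subtype.val e)
    have e2 := hv ⟨g * z * g⁻¹, (MonoidHom.normal_ker pi).conj_mem z hz g⟩ fun e => h1 (by
      simpa using congrArg Subtype.val e)
    have e3 := congrArg Subtype.val (e2.trans e1.symm)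
    exact mul_inv_eq_iff_eq_mul.1 e3

/-- The nine generators onto the subgroup of the centralizing transpositions. -/
def psi : Pres 9 relsH ≃* ↥(Subgroup.closure (perpSet cls zee)) :=
  (MonoidHom.ofInjective card_nine.2).trans (MulEquiv.subgroupCongr (range_nine.trans closure_perp.symm))

/-- The smaller group onto the quotient. -/
def descend : Fi22Out.Gp ≃*
    ↥(Subgroup.closure (perpSet cls zee)) ⧸ Subgroup.center ↥(Subgroup.closure (perpSet cls zee)) :=
  ((QuotientGroup.quotientMulEquivOfEq pi_ker.symm).trans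
    (QuotientGroup.quotientKerEquivOfSurjective pi pi_surjective)).symm.trans (quotCenterCongr psi)

theorem descend_pi (u : Pres 9 relsH) : descend (pi u) = QuotientGroup.mk (psi u) := by
  rw [descend, MulEquiv.trans_apply, ← quotCenterCongr_mk psi u]
  congr 1
  rw [MulEquiv.symm_apply_eq]
  rfl

theorem psi_gen0 : (psi (presGen 9 relsH 0) : Gp) = let' 0 := by
  show nine (presGen 9 relsH 0) = let' 0
  rw [let', Act.letters_of_lt (A := ActF.act) (show 0 < ActF.act.k by decide +kernel)]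
  exact presHom_gen (sat_sub (sat_presGen 10 relsG) [0, 1, 2, 3, 4, 5, 6, 8, 9] hrel) 0

theorem descend_cls : descend '' M22.cls =
    (QuotientGroup.mk : ↥(Subgroup.closure (perpSet cls zee)) → _) ''
      {x : ↥(Subgroup.closure (perpSet cls zee)) | (x : Gp) ∈ perpSet cls zee} := by
  have h22 : (Fi22Out.zee : Fi22Out.Gp) = pi (presGen 9 relsH 0) := (pi_gen 0).symm
  have hmem : ∀ u : Pres 9 relsH, (psi u : Gp) ∈ subH := fun u => closure_perp ▸ (psi u).2
  ext y
  constructor
  · rintro ⟨_, ⟨p, rfl⟩, rfl⟩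
    letI := Fi22.actionH
    obtain ⟨g, hg⟩ := Fi22Out.trans_pt p
    obtain ⟨u, rfl⟩ := pi_surjective g
    refine ⟨psi (u * presGen 9 relsH 0 * u⁻¹), ?_, ?_⟩
    · show (psi (u * presGen 9 relsH 0 * u⁻¹) : Gp) ∈ perpSet cls zee
      rw [map_mul, map_mul, map_inv, Subgroup.coe_mul, Subgroup.coe_mul, Subgroup.coe_inv, psi_gen0]
      exact perp_conj (hmem u) (letter_perp (by decide))
    · rw [← descend_pi, map_mul pi, map_mul pi, map_inv pi, ← h22, Fi22Out.trp_eq hg]
  · rintro ⟨x, hx, rfl⟩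
    obtain ⟨h, hh, he⟩ := perp_orbit hx
    rw [← range_nine] at hh
    obtain ⟨u, rfl⟩ := hh
    letI := Fi22.actionH
    refine ⟨Fi22Out.trp (pi u • Fi22Out.pt0), ⟨_, rfl⟩, ?_⟩
    rw [Fi22Out.trp_eq (g := pi u) rfl, h22, ← map_inv pi, ← map_mul pi, ← map_mul pi, descend_pi]
    refine congrArg _ (Subtype.ext ?_)
    rw [map_mul, map_mul, map_inv, Subgroup.coe_mul, Subgroup.coe_mul, Subgroup.coe_inv, psi_gen0]
    exact he

/-- The point of an index. -/
def pN (i : ℕ) : ℕ := ptTbl.get 16 i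

/-- What is checked of a point. -/
def ptOK (i : ℕ) : Bool :=
  Nat.blt (pN i) 31671 && Nat.beq (posTbl.get 16 (pN i)) i && Nat.beq (ActF.act.T 10 (pN i)) (pN i) &&
    Nat.beq (ActF.act.T 7 (pN i)) (pN i) && !(Nat.beq (pN i) 0) && !(Nat.beq (pN i) (ptN 7))

/-- Every common fixed point is listed. -/
def scanOK (c : ℕ) : Bool :=
  !(Nat.beq (ActF.act.T 10 c) c) || !(Nat.beq (ActF.act.T 7 c) c) || Nat.beq c 0 || Nat.beq c (ptN 7) ||
    (Nat.blt (posTbl.get 16 c) 351 && Nat.beq (pN (posTbl.get 16 c)) c)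

/-- The word of a chosen member is its transposition. -/
def wordOK (k : ℕ) : Bool :=
  match words.getD k [] with
  | [x] => Nat.blt x 10 && Nat.beq (ptN x) (pN k)
  | w => let u := w.take (w.length / 2)
    decide (w = u ++ 10 :: u.reverse) && u.all (fun x => Nat.blt x 10) && Nat.beq (ActF.act.wact u 0) (pN k)

/-- The table is the conjugation. -/
def actOK (i : ℕ) : Bool :=
  (List.range 8).all fun k => Nat.blt (fN fTbls k i) 351 &&
    Nat.beq (ActF.act.wact (words.getD k []) (pN i)) (pN (fN fTbls k i))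

theorem pt_ok : allFrom ptOK 0 351 = true := by decide +kernel
theorem scan_0 : allFrom scanOK 0 16000 = true := by decide +kernel
theorem scan_1 : allFrom scanOK 16000 15671 = true := by decide +kernel
theorem scan_ok : ∀ c, c < 31671 → scanOK c = true := fun c hc => by
  by_cases h : c < 16000
  · exact allFrom_spec scan_0 c (Nat.zero_le _) (by omega)
  · exact allFrom_spec scan_1 c (by omega) (by omega)
theorem word_ok : ∀ k < 8, wordOK k = true ∧ ∀ x ∈ words.getD k [], x < 10 := by decide +kernel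
theorem act_ok : allFrom actOK 0 351 = true := by decide +kernel
theorem par_ok : allFrom (parOK fTbls parTbl 8) 0 351 = true := by decide +kernel
theorem code_ok : allFrom (codeOK 7 otherTbl 351) 0 351 = true := by decide +kernel
theorem cover_ok : allFrom (coverOK 7 otherTbl 351) 0 2187 = true := by decide +kernel
theorem step_ok : allFrom (fun i => (List.range 8).all fun k => stepOK 7 otherTbl fTbls 351 k i) 0 351 = true := by
  decide +kernel

theorem pt_spec {i : ℕ} (hi : i < 351) : ptOK i = true := allFrom_spec pt_ok i (Nat.zero_le _) (by omega)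

theorem pN_lt {i : ℕ} (hi : i < 351) : pN i < ActF.act.n := by
  have h := pt_spec hi
  simp only [ptOK, Bool.and_eq_true, Nat.blt_eq] at h
  exact h.1.1.1.1.1

/-- The point of an index. -/
def pF (i : Fin 351) : Pt := ⟨pN i, pN_lt i.2⟩

/-- The transposition of an index. -/
def fam (i : Fin 351) : Gp := trp (pF i)

theorem fam_inj : Function.Injective fam := by
  intro i j e
  have e' : pN i = pN j := congrArg Fin.val (trp_inj e)
  have hi := pt_spec i.2
  have hj := pt_spec j.2
  simp only [ptOK, Bool.and_eq_true] at hi hj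
  refine Fin.ext ?_
  rw [← Nat.eq_of_beq_eq_true hi.1.1.1.1.2, e', Nat.eq_of_beq_eq_true hj.1.1.1.1.2]

theorem word_trp (k : Fin 8) : el (words.getD k []) = fam (inc (by norm_num) k) := by
  obtain ⟨hw, -⟩ := word_ok k k.2
  unfold wordOK at hw
  split at hw
  · next x hx =>
    simp only [Bool.and_eq_true, Nat.blt_eq] at hw
    rw [hx, show el [x] = let' x by simp [el, let', ev], letters_trp x hw.1.le]
    exact congrArg trp (Fin.ext (Nat.eq_of_beq_eq_true hw.2))
  · next w hx =>
    simp only [Bool.and_eq_true, decide_eq_true_eq, List.all_eq_true, Nat.blt_eq] at hw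
    rw [hw.1.1]
    exact (trp_word hw.1.2 (Nat.eq_of_beq_eq_true hw.2)).symm

theorem fam_conj (k : Fin 8) (i : Fin 351) :
    fam (inc (by norm_num) k) * fam i * (fam (inc (by norm_num) k))⁻¹ = fam (fFin fTbls (by norm_num) k i) := by
  rw [← word_trp k]
  unfold fam
  rw [conj_trp]
  refine congrArg trp (Fin.ext ?_)
  have h := allFrom_spec act_ok i (Nat.zero_le _) (by omega)
  simp only [actOK, List.all_eq_true, List.mem_range, Bool.and_eq_true, Nat.blt_eq] at h
  obtain ⟨hlt, he⟩ := h k k.2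
  rw [el_smul (below_K (word_ok k k.2).2)]
  show ActF.act.wact _ (pN i) = pN (fFin fTbls _ k i : Fin 351)
  rw [fFin_val (by norm_num) hlt]
  exact Nat.eq_of_beq_eq_true he

theorem range_fam : Set.range fam = perpSet cls zee ∩ perpSet cls (trp (gpt 7)) := by
  have h0 : ∀ p : Pt, Commute zee (trp p) ↔ ActF.act.T 10 p = p := fun p => by
    rw [commute_trp_iff, zee_let, Fin.ext_iff, let_smul (by decide +kernel)]
  have h1 : ∀ p : Pt, Commute (trp (gpt 7)) (trp p) ↔ ActF.act.T 7 p = p := fun p => by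
    rw [commute_trp_iff, ← letters_trp 7 (by norm_num), Fin.ext_iff, let_smul (by decide +kernel)]
  ext y
  constructor
  · rintro ⟨i, rfl⟩
    have h := pt_spec i.2
    simp only [ptOK, Bool.and_eq_true, Bool.not_eq_true'] at h
    obtain ⟨⟨⟨⟨-, t0⟩, t1⟩, n0⟩, n1⟩ := h
    refine ⟨⟨⟨_, rfl⟩, fun e => ?_, (h0 _).2 (Nat.eq_of_beq_eq_true t0)⟩,
      ⟨⟨_, rfl⟩, fun e => ?_, (h1 _).2 (Nat.eq_of_beq_eq_true t1)⟩⟩
    · rw [← trp_pt0] at e
      have e' : pN i = 0 := congrArg Fin.val (trp_inj e)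
      rw [e', Nat.beq_refl] at n0
      exact Bool.noConfusion n0
    · have e' : pN i = ptN 7 := congrArg Fin.val (trp_inj e)
      rw [e', Nat.beq_refl] at n1
      exact Bool.noConfusion n1
  · rintro ⟨⟨⟨p, rfl⟩, hne0, c0⟩, ⟨-, hne1, c1⟩⟩
    have hp := p.2
    change (p : ℕ) < 31671 at hp
    have h := scan_ok p (by omega)
    simp only [scanOK, Bool.or_eq_true, Bool.not_eq_true', Bool.and_eq_true, Nat.blt_eq] at h
    rw [(h0 p).1 c0, (h1 p).1 c1, Nat.beq_refl] at h
    rcases h with (((h | h) | h) | h) | ⟨hlt, he⟩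
    · exact Bool.noConfusion h
    · exact Bool.noConfusion h
    · exact absurd (trp_pt0 ▸ congrArg trp (show p = pt0 from Fin.ext (Nat.eq_of_beq_eq_true h))) hne0
    · exact absurd (congrArg trp (show p = gpt 7 from Fin.ext (Nat.eq_of_beq_eq_true h))) hne1
    · exact ⟨⟨_, hlt⟩, congrArg trp (Fin.ext (Nat.eq_of_beq_eq_true he))⟩

theorem isOfTypeM23 : Cfsg.IsOfTypeM23 Gp cls := by
  refine ⟨center_eq, zee, ⟨pt0, trp_pt0⟩, trp (gpt 7), ⟨_, rfl⟩, trp_pt0 ▸ not_comm,
    m22_congr descend descend_cls M22.isOfTypeM22, 1, one_ne_zero, ?_⟩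
  refine projRefl_congr (quotCenterCongr (MulEquiv.subgroupCongr (congrArg Subgroup.closure range_fam))).symm ?_
  exact proj_of_tables fam fam_inj (by norm_num) (by norm_num)
    (fun i hi => allFrom_spec par_ok i (Nat.zero_le _) (by omega))
    (fun i hi => allFrom_spec code_ok i (Nat.zero_le _) (by omega))
    (fun c hc => allFrom_spec cover_ok c (Nat.zero_le _) (by omega))
    (fun k hk i hi => List.all_eq_true.1 (allFrom_spec step_ok i (Nat.zero_le _) (by omega)) k
      (List.mem_range.2 hk))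
    fam_conj (by decide)

end

end CfsgLib.Spor.FischerTypes.M23
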