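/-
The presented Fischer group on 306936 points: primitivity and the transpositions commuting with one.
-/
import Cfsg.Agent.Lib.Spor.Fi24Class.Basic
import Cfsg.Agent.Lib.Spor.FischerTypes.M23

set_option autoImplicit false

namespace CfsgLib.Spor.FischerTypes.M24

open CfsgLib.Spor.TC CfsgLib.Spor.Fi24 CfsgLib.Spor.Fi24Class MulAction

set_option maxRecDepth 100000

noncomputable section

/-- The action on the points. -/
@[reducible] def act24 : MulAction X₀ (Fin nPts) := MulAction.compHom (Fin nPts) rho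

attribute [local instance] act24

/-- The suborbits. -/
def suborbits24 : Suborbits X₀ subX (Fin nPts) 3 where
  a := pt0
  stab := by
    ext g
    rw [mem_stabilizer_iff]
    exact mem_subX.symm
  trans := transitive_rho
  rep := ![pt0, pt965, pt1]
  size := ![1, 31671, 275264]
  orbit_size := by
    intro i
    have ho : ∀ p : Fin nPts, orbit subX p = {q | ∃ g ∈ subX, rho g p = q} := fun p => by
      ext q
      exact ⟨fun ⟨⟨g, hg⟩, e⟩ => ⟨g, hg, e⟩, fun ⟨g, hg, e⟩ => ⟨⟨g, hg⟩, e⟩⟩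
    fin_cases i
    · show (orbit subX pt0).ncard = 1
      rw [Set.ncard_eq_one]
      refine ⟨pt0, ?_⟩
      ext q
      rw [ho, Set.mem_setOf_eq, Set.mem_singleton_iff]
      exact ⟨fun ⟨g, hg, e⟩ => e ▸ mem_subX.1 hg, fun e => ⟨1, one_mem _, by rw [map_one, e]; rfl⟩⟩
    · show (orbit subX pt965).ncard = 31671
      rw [ho, orbit_965, card_InA]
    · show (orbit subX pt1).ncard = 275264
      rw [ho, orbit_1, card_rest]
  cover := by
    intro x
    rcases class_of_point x with rfl | ⟨-, g, hg, e⟩ | ⟨-, -, g, hg, e⟩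
    · exact ⟨0, mem_orbit_self _⟩
    · exact ⟨1, ⟨g, hg⟩, e⟩
    · exact ⟨2, ⟨g, hg⟩, e⟩
  sum_size := by
    rw [Nat.card_fin, Fin.sum_univ_three]
    rfl

theorem primitive : Cfsg.IsPrimitiveUnderConj Fi24Class.cls := by
  refine primitive_of_suborbits suborbits24 (i₀ := 0) rfl rfl ?_ trp trp_injective (fun g p => (trp_smul g p).symm)
    (show pt0 ≠ pt1 from fun h => absurd (congrArg Fin.val h) (by decide))
  rw [Nat.card_fin]
  show NoBlockSum ![1, 31671, 275264] nPts
  decide +kernel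

theorem perp_iff (y : X₀) :
    y ∈ perpSet Fi24Class.cls zee ↔ ∃ p : Fin nPts, InA p ∧ trp p = y := by
  constructor
  · rintro ⟨⟨p, rfl⟩, hne, hc⟩
    refine ⟨p, (inA_iff p).2 ⟨fun e => hne (by rw [e, trp_pt0]), ?_⟩, rfl⟩
    rw [← trp_pt0, commute_trp_iff, trp_pt0, rho_zee] at hc
    exact hc
  · rintro ⟨p, hp, rfl⟩
    obtain ⟨h0, hf⟩ := (inA_iff p).1 hp
    refine ⟨⟨p, rfl⟩, fun e => h0 (trp_injective (e.trans trp_pt0.symm)), ?_⟩
    rw [← trp_pt0, commute_trp_iff, trp_pt0, rho_zee]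
    exact hf

theorem perp_le {y : X₀} (hy : y ∈ perpSet Fi24Class.cls zee) : y ∈ subX := by
  rw [← centralizer_zee, Subgroup.mem_centralizer_singleton_iff]
  exact hy.2.2.symm.eq

theorem gen_perp {x : ℕ} (hx : x ∈ [2, 3, 4, 5, 6, 7, 8, 9, 10, 11]) : gen x ∈ perpSet Fi24Class.cls zee := by
  have hx12 : x < 12 := (show ∀ y ∈ [2, 3, 4, 5, 6, 7, 8, 9, 10, 11], y < 12 by decide) x hx
  refine ⟨gen_mem_cls hx12, fun e => ?_,
    (commute_zero_subX (Fi24.gen_mem ((show ∀ y ∈ [2, 3, 4, 5, 6, 7, 8, 9, 10, 11], y ∈ embH by decide) x hx))).symm⟩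
  have e' : trp (gpt ⟨x, hx12⟩) = trp pt0 := by rw [trp_gpt, trp_pt0]; exact e
  exact absurd (congrArg Fin.val (trp_injective e'))
    ((show ∀ y ∈ [2, 3, 4, 5, 6, 7, 8, 9, 10, 11], gpts.getD y 0 ≠ 0 by decide) x hx)

theorem closure_perp : Subgroup.closure (perpSet Fi24Class.cls zee) = subX := by
  refine le_antisymm ((Subgroup.closure_le _).2 fun y hy => perp_le hy) ?_
  rw [subX, Subgroup.closure_le]
  rintro _ ⟨x, hx, rfl⟩
  rcases (show ∀ y ∈ embH, y = 0 ∨ y ∈ [2, 3, 4, 5, 6, 7, 8, 9, 10, 11] by decide) x hx with rfl | h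
  · rw [SetLike.mem_coe, gen_zero_eq]
    exact ev_mem fun y hy => Subgroup.subset_closure
      (gen_perp ((show ∀ z ∈ wordL, z ∈ [2, 3, 4, 5, 6, 7, 8, 9, 10, 11] by decide +kernel) y hy))
  · exact Subgroup.subset_closure (gen_perp h)

/-- The smaller group onto the quotient of the centralizer by its axis. -/
def thetaM : Fi23Out.Gp →* subX ⧸ Subgroup.zpowers zX := theta all_points all_phi all_roots

theorem thetaM_bijective : Function.Bijective thetaM := theta_bijective all_points all_phi all_roots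

theorem center_subX : Subgroup.center subX = Subgroup.zpowers zX := by
  refine le_antisymm (fun z hz => ?_) ?_
  · obtain ⟨u, hu⟩ := thetaM_bijective.2 (QuotientGroup.mk z)
    have hc : u ∈ Subgroup.center Fi23Out.Gp := Subgroup.mem_center_iff.2 fun v => thetaM_bijective.1 (by
      rw [map_mul, map_mul, hu]
      obtain ⟨y, hy⟩ := QuotientGroup.mk_surjective (thetaM v)
      rw [← hy, ← QuotientGroup.mk_mul, ← QuotientGroup.mk_mul, Subgroup.mem_center_iff.1 hz y])
    rw [M23.center_eq, Subgroup.mem_bot] at hc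
    rw [hc, map_one] at hu
    exact (QuotientGroup.eq_one_iff z).1 hu.symm
  · rw [Subgroup.zpowers_le, Subgroup.mem_center_iff]
    exact fun g => Subtype.ext (commute_zero_subX g.2).eq

/-- The smaller group onto the quotient by the centre. -/
def descend : Fi23Out.Gp ≃*
    ↥(Subgroup.closure (perpSet Fi24Class.cls zee)) ⧸
      Subgroup.center ↥(Subgroup.closure (perpSet Fi24Class.cls zee)) :=
  ((MulEquiv.ofBijective thetaM thetaM_bijective).trans (QuotientGroup.quotientMulEquivOfEq center_subX.symm)).trans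
    (quotCenterCongr (MulEquiv.subgroupCongr closure_perp.symm))

theorem descend_of {u : Fi23Out.Gp} {g : subX} (h : thetaM u = QuotientGroup.mk g) :
    descend u = QuotientGroup.mk (MulEquiv.subgroupCongr closure_perp.symm g) := by
  show quotCenterCongr (MulEquiv.subgroupCongr closure_perp.symm)
    (QuotientGroup.quotientMulEquivOfEq center_subX.symm (thetaM u)) = _
  rw [h]
  rfl

theorem theta_let0 : thetaM (Fi23Out.let' 0) = QuotientGroup.mk (liftX 0) := by
  rw [Fi23Out.let', Act.letters_of_lt (A := Fi23.ActF.act) (show 0 < Fi23.ActF.act.k by decide +kernel)]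
  exact presHom_gen _ 0

theorem liftX_zero : ((liftX 0 : subX) : X₀) = trp pt965 := by
  rw [liftX, dif_pos (by norm_num)]
  exact (trp_gpt 2).symm

theorem descend_cls : descend '' M23.cls =
    (QuotientGroup.mk : ↥(Subgroup.closure (perpSet Fi24Class.cls zee)) → _) ''
      {x : ↥(Subgroup.closure (perpSet Fi24Class.cls zee)) | (x : X₀) ∈ perpSet Fi24Class.cls zee} := by
  letI := Fi23.actionF
  obtain ⟨g0, hg0⟩ := Fi23Out.trans_pt (Fi23Out.gpt 0)
  have h0 : Fi23Out.let' 0 = g0 * Fi23.zee * g0⁻¹ := by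
    rw [Fi23Out.letters_trp 0 (by norm_num), Fi23Out.trp_eq hg0]
  ext y
  constructor
  · rintro ⟨_, ⟨q, rfl⟩, rfl⟩
    obtain ⟨k, hk⟩ := Fi23Out.trans_pt q
    obtain ⟨s, hs⟩ := QuotientGroup.mk_surjective (thetaM (k * g0⁻¹))
    have hu : thetaM (Fi23Out.trp q) = QuotientGroup.mk (s * liftX 0 * s⁻¹) := by
      rw [Fi23Out.trp_eq hk, show k * Fi23.zee * k⁻¹ = (k * g0⁻¹) * Fi23Out.let' 0 * (k * g0⁻¹)⁻¹ by rw [h0]; group,
        map_mul, map_mul, map_inv, theta_let0, ← hs]
      rfl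
    refine ⟨MulEquiv.subgroupCongr closure_perp.symm (s * liftX 0 * s⁻¹), ?_, (descend_of hu).symm⟩
    show ((s * liftX 0 * s⁻¹ : subX) : X₀) ∈ perpSet Fi24Class.cls zee
    rw [perp_iff, Subgroup.coe_mul, Subgroup.coe_mul, Subgroup.coe_inv, liftX_zero, ← trp_smul]
    exact ⟨_, (Set.ext_iff.1 orbit_965 _).1 ⟨s, s.2, rfl⟩, rfl⟩
  · rintro ⟨x, hx, rfl⟩
    obtain ⟨p, hp, e⟩ := (perp_iff _).1 hx
    obtain ⟨a, ha, rfl⟩ := (Set.ext_iff.1 orbit_965 p).2 hp
    obtain ⟨u, hu⟩ := thetaM_bijective.2 (QuotientGroup.mk (⟨a, ha⟩ : subX))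
    refine ⟨u * Fi23Out.let' 0 * u⁻¹, ⟨(u * g0) • Fi23Out.pt0, ?_⟩, ?_⟩
    · rw [Fi23Out.trp_eq rfl, h0]; group
    · rw [descend_of (g := ⟨a, ha⟩ * liftX 0 * ⟨a, ha⟩⁻¹) (by rw [map_mul, map_mul, map_inv, theta_let0, hu]; rfl)]
      refine congrArg _ (Subtype.ext ?_)
      show a * ((liftX 0 : subX) : X₀) * a⁻¹ = (x : X₀)
      rw [liftX_zero, ← trp_smul]
      exact e

end

end CfsgLib.Spor.FischerTypes.M24
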