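/-
The presented Fischer group on 306936 points is of type M(24).
-/
import Cfsg.Agent.Lib.Spor.FischerTypes.M24H
import Cfsg.Agent.Lib.Spor.FischerTypes.DataM24
import Cfsg.Agent.Lib.Spor.Fi23Plus.Final

set_option autoImplicit false

namespace CfsgLib.Spor.FischerTypes.M24

open CfsgLib.Spor.TC CfsgLib.Spor.Fi24 CfsgLib.Spor.Fi24Class MulAction

set_option maxRecDepth 100000

noncomputable section

/-- The point of an index. -/
def pN (i : ℕ) : ℕ := ptTbl.get 20 i

/-- The point of an index in the smaller group. -/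
def oN (i : ℕ) : ℕ := otherTbl.get 16 i

/-- What is checked of a point. -/
def ptOK (i : ℕ) : Bool :=
  Nat.blt (pN i) 306936 && Nat.beq (posTbl.get 16 (pN i)) i && Nat.beq (T 0 (pN i)) (pN i) &&
    Nat.beq (T 1 (pN i)) (pN i) && !(Nat.beq (pN i) 0) && !(Nat.beq (pN i) 2)

/-- What is checked of a point of the smaller group. -/
def otherOK (i : ℕ) : Bool := Nat.blt (oN i) 31671 && Nat.beq (oposTbl.get 16 (oN i)) i

/-- Every fixed point of the second letter is listed. -/
def scanOK (c : ℕ) : Bool :=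
  !(Nat.beq (T 1 c) c) || Nat.beq c 2 || (Nat.blt (posTbl.get 16 c) 3240 && Nat.beq (pN (posTbl.get 16 c)) c)

/-- The word of a chosen member is its transposition. -/
def wordOK (k : ℕ) : Bool :=
  match words.getD k [] with
  | [x] => Nat.blt x 12 && Nat.beq (gpts.getD x 0) (pN k)
  | w => let u := w.take (w.length / 2)
    decide (w = u ++ 0 :: u.reverse) && u.all (fun x => Nat.blt x 12) && Nat.beq (walk u 0) (pN k)

/-- The word of a chosen member of the smaller group is its transposition. -/
def otherWordOK (k : ℕ) : Bool :=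
  match otherWords.getD k [] with
  | [x] => Nat.blt x 10 && Nat.beq (Fi23Out.ptN x) (oN k)
  | w => let u := w.take (w.length / 2)
    decide (w = u ++ 10 :: u.reverse) && u.all (fun x => Nat.blt x 10) && Nat.beq (Fi23.ActF.act.wact u 0) (oN k)

/-- The table is the conjugation in both groups. -/
def actOK (i : ℕ) : Bool :=
  (List.range 10).all fun k => Nat.blt (fN fTbls k i) 3240 && Nat.beq (walk (words.getD k []) (pN i)) (pN (fN fTbls k i))

/-- The table is the conjugation in the smaller group. -/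
def otherActOK (i : ℕ) : Bool :=
  (List.range 10).all fun k =>
    Nat.beq (Fi23.ActF.act.wact (otherWords.getD k []) (oN i)) (oN (fN fTbls k i))

theorem pt_ok : allFrom ptOK 0 3240 = true := by decide +kernel
theorem other_ok : allFrom otherOK 0 3240 = true := by decide +kernel
theorem scan_965 : allFrom scanOK 965 1 = true := by decide +kernel
theorem scan_1926 : allFrom scanOK 1926 2040 = true := by decide +kernel
theorem scan_10266 : allFrom scanOK 10266 3150 = true := by decide +kernel
theorem scan_80616 : allFrom scanOK 80616 7500 = true := by decide +kernel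
theorem scan_88116 : allFrom scanOK 88116 7500 = true := by decide +kernel
theorem scan_95616 : allFrom scanOK 95616 7400 = true := by decide +kernel
theorem scan_302856 : allFrom scanOK 302856 4080 = true := by decide +kernel
theorem word_ok : ∀ k < 10, wordOK k = true ∧ ∀ x ∈ words.getD k [], x < 12 := by decide +kernel
theorem otherWord_ok : ∀ k < 10, otherWordOK k = true ∧
    (∀ x ∈ otherWords.getD k [], x < Fi23.ActF.act.K) ∧
    (oN k = 23118 ∨ ∃ i < 9, oN k = Fi23Out.ptN (Fi23Plus.embK i)) := by decide +kernel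
theorem gens_hit : ∀ i < 9, ∃ k < 10, oN k = Fi23Out.ptN (Fi23Plus.embK i) := by decide +kernel
theorem xel_hit : oN 9 = 23118 := by decide +kernel
theorem act_0 : allFrom actOK 0 1600 = true := by decide +kernel
theorem act_1 : allFrom actOK 1600 1640 = true := by decide +kernel
theorem otherAct_0 : allFrom otherActOK 0 1600 = true := by decide +kernel
theorem otherAct_1 : allFrom otherActOK 1600 1640 = true := by decide +kernel
theorem par_ok : allFrom (parOK fTbls parTbl 10) 0 3240 = true := by decide +kernel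

theorem scan_spec (p : Fin nPts) (hp : InA p) : scanOK p = true := by
  simp only [InA] at hp
  rcases hp with h | h | h | h | h
  · exact allFrom_spec scan_965 p (by omega) (by omega)
  · exact allFrom_spec scan_1926 p (by omega) (by omega)
  · exact allFrom_spec scan_10266 p (by omega) (by omega)
  · by_cases h1 : (p : ℕ) < 88116
    · exact allFrom_spec scan_80616 p (by omega) (by omega)
    · by_cases h2 : (p : ℕ) < 95616
      · exact allFrom_spec scan_88116 p (by omega) (by omega)
      · exact allFrom_spec scan_95616 p (by omega) (by omega)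
  · exact allFrom_spec scan_302856 p (by omega) (by omega)

theorem act_spec {i : ℕ} (hi : i < 3240) : actOK i = true ∧ otherActOK i = true := by
  by_cases h : i < 1600
  · exact ⟨allFrom_spec act_0 i (Nat.zero_le _) (by omega), allFrom_spec otherAct_0 i (Nat.zero_le _) (by omega)⟩
  · exact ⟨allFrom_spec act_1 i (by omega) (by omega), allFrom_spec otherAct_1 i (by omega) (by omega)⟩

theorem pt_spec {i : ℕ} (hi : i < 3240) : ptOK i = true := allFrom_spec pt_ok i (Nat.zero_le _) (by omega)

theorem pN_lt {i : ℕ} (hi : i < 3240) : pN i < nPts := by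
  have h := pt_spec hi
  simp only [ptOK, Bool.and_eq_true, Nat.blt_eq] at h
  exact h.1.1.1.1.1

theorem oN_spec {i : ℕ} (hi : i < 3240) : oN i < Fi23.ActF.act.n ∧ oposTbl.get 16 (oN i) = i := by
  have h := allFrom_spec other_ok i (Nat.zero_le _) (by omega)
  simp only [otherOK, Bool.and_eq_true, Nat.blt_eq] at h
  exact ⟨h.1, Nat.eq_of_beq_eq_true h.2⟩

/-- The transposition of an index. -/
def fam (i : Fin 3240) : X₀ := trp ⟨pN i, pN_lt i.2⟩

/-- The transposition of an index in the smaller group. -/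
def other (i : Fin 3240) : Fi23Out.Gp := Fi23Out.trp ⟨oN i, (oN_spec i.2).1⟩

theorem fam_inj : Function.Injective fam := by
  intro i j e
  have e' : pN i = pN j := congrArg Fin.val (trp_injective e)
  have hi := pt_spec i.2
  have hj := pt_spec j.2
  simp only [ptOK, Bool.and_eq_true] at hi hj
  refine Fin.ext ?_
  rw [← Nat.eq_of_beq_eq_true hi.1.1.1.1.2, e', Nat.eq_of_beq_eq_true hj.1.1.1.1.2]

theorem other_inj : Function.Injective other := by
  intro i j e
  letI := Fi23.actionF
  have e' : oN i = oN j := congrArg Fin.val (Fi23Out.trp_inj e)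
  refine Fin.ext ?_
  rw [← (oN_spec i.2).2, e', (oN_spec j.2).2]

theorem word_fam (k : Fin 10) : el (words.getD k []) = fam (inc (by norm_num) k) := by
  obtain ⟨hw, -⟩ := word_ok k k.2
  unfold wordOK at hw
  split at hw
  · next x hx =>
    simp only [Bool.and_eq_true, Nat.blt_eq] at hw
    rw [hx, show el [x] = gen x by simp [el, ev], ← trp_gpt ⟨x, hw.1⟩]
    exact congrArg trp (Fin.ext (Nat.eq_of_beq_eq_true hw.2))
  · next w hx =>
    simp only [Bool.and_eq_true, decide_eq_true_eq, List.all_eq_true, Nat.blt_eq] at hw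
    obtain ⟨⟨he, hu⟩, hp⟩ := hw
    set u := (words.getD k []).take ((words.getD k []).length / 2)
    have hq : rho (el u) pt0 = ⟨pN k, pN_lt (show (k : ℕ) < 3240 by omega)⟩ := by
      refine Fin.ext ?_
      rw [rho_el, ev_val all_points hu]
      exact Nat.eq_of_beq_eq_true hp
    rw [he, show fam (inc (by norm_num) k) = trp ⟨pN k, pN_lt (show (k : ℕ) < 3240 by omega)⟩ from rfl, trp_eq hq,
      el, ev_append, ev_cons, ev_reverse_of_sq (sat_presGen 12 relsX).sq, mul_assoc]

theorem word_other (k : Fin 10) : Fi23Out.el (otherWords.getD k []) = other (inc (by norm_num) k) := by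
  letI := Fi23.actionF
  obtain ⟨hw, -⟩ := otherWord_ok k k.2
  unfold otherWordOK at hw
  split at hw
  · next x hx =>
    simp only [Bool.and_eq_true, Nat.blt_eq] at hw
    rw [hx, show Fi23Out.el [x] = Fi23Out.let' x by simp [Fi23Out.el, Fi23Out.let', ev],
      Fi23Out.letters_trp x hw.1.le]
    exact congrArg Fi23Out.trp (Fin.ext (Nat.eq_of_beq_eq_true hw.2))
  · next w hx =>
    simp only [Bool.and_eq_true, decide_eq_true_eq, List.all_eq_true, Nat.blt_eq] at hw
    rw [hw.1.1]
    exact (Fi23Out.trp_word hw.1.2 (Nat.eq_of_beq_eq_true hw.2)).symm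

theorem fam_conj (k : Fin 10) (i : Fin 3240) :
    fam (inc (by norm_num) k) * fam i * (fam (inc (by norm_num) k))⁻¹ = fam (fFin fTbls (by norm_num) k i) := by
  rw [← word_fam k]
  unfold fam
  rw [← trp_smul]
  refine congrArg trp (Fin.ext ?_)
  have h := (act_spec i.2).1
  simp only [actOK, List.all_eq_true, List.mem_range, Bool.and_eq_true, Nat.blt_eq] at h
  obtain ⟨hlt, he⟩ := h k k.2
  rw [rho_el, ev_val all_points (word_ok k k.2).2]
  show walk _ (pN i) = pN (fFin fTbls _ k i : Fin 3240)
  rw [fFin_val (by norm_num) hlt]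
  exact Nat.eq_of_beq_eq_true he

theorem other_conj (k : Fin 10) (i : Fin 3240) :
    other (inc (by norm_num) k) * other i * (other (inc (by norm_num) k))⁻¹ =
      other (fFin fTbls (by norm_num) k i) := by
  letI := Fi23.actionF
  rw [← word_other k]
  unfold other
  rw [Fi23Out.conj_trp]
  refine congrArg Fi23Out.trp (Fin.ext ?_)
  obtain ⟨ha, hb⟩ := act_spec i.2
  simp only [actOK, List.all_eq_true, List.mem_range, Bool.and_eq_true, Nat.blt_eq] at ha
  simp only [otherActOK, List.all_eq_true, List.mem_range] at hb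
  rw [Fi23Out.el_smul (otherWord_ok k k.2).2.1]
  show Fi23.ActF.act.wact _ (oN i) = oN (fFin fTbls _ k i : Fin 3240)
  rw [fFin_val (by norm_num) (ha k k.2).1]
  exact Nat.eq_of_beq_eq_true (hb k k.2)

theorem reach : ∀ p : Fin 3240 → Prop, (∀ k : Fin 10, p (inc (by norm_num) k)) →
    (∀ (k : Fin 10) i, p i → p (fFin fTbls (by norm_num) k i)) → ∀ i, p i :=
  reach_of_parOK (K := 10) (by norm_num) (by norm_num) fun i hi => allFrom_spec par_ok i (Nat.zero_le _) (by omega)

theorem closure_other : Subgroup.closure (Set.range other) = Fi23Plus.big := by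
  letI := Fi23.actionF
  have hgen : ∀ k : Fin 10, other (inc (by norm_num) k) ∈ Fi23Plus.big := by
    intro k
    obtain ⟨-, -, h | ⟨i, hi, h⟩⟩ := otherWord_ok k k.2
    · rw [show other (inc (by norm_num) k) = Fi23Out.trp Fi23Plus.xpt from congrArg Fi23Out.trp (Fin.ext h),
        Fi23Plus.trp_xpt]
      exact Fi23Plus.xel_mem
    · rw [show other (inc (by norm_num) k) = Fi23Out.trp (Fi23Out.gpt (Fi23Plus.embK i)) from
        congrArg Fi23Out.trp (Fin.ext h), ← Fi23Plus.phi_kg_trp hi]
      exact Fi23Plus.phi_mem _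
  refine le_antisymm ?_ ?_
  · rw [Subgroup.closure_le]
    rintro _ ⟨i, rfl⟩
    refine reach (fun i => other i ∈ Fi23Plus.big) hgen (fun k j hj => ?_) i
    rw [← other_conj k j]
    exact mul_mem (mul_mem (hgen k) hj) (inv_mem (hgen k))
  · rw [Fi23Plus.big, Subgroup.closure_le]
    rintro _ (rfl | ⟨_, ⟨i, hi, rfl⟩, rfl⟩)
    · exact Subgroup.subset_closure ⟨⟨9, by norm_num⟩, by
        rw [← Fi23Plus.trp_xpt]; exact congrArg Fi23Out.trp (Fin.ext xel_hit)⟩
    · obtain ⟨k, hk, h⟩ := gens_hit i hi
      exact Subgroup.subset_closure ⟨⟨k, by omega⟩, by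
        rw [Fi23Plus.phi_kg_trp hi]; exact congrArg Fi23Out.trp (Fin.ext h)⟩

theorem center_big : Subgroup.center ↥Fi23Plus.big = ⊥ := by
  rw [Subgroup.eq_bot_iff_forall]
  intro g hg
  refine Subtype.ext (Fi23Plus.centralizer_sub' g.2 fun k hk => ?_)
  exact (congrArg Subtype.val (Subgroup.mem_center_iff.1 hg ⟨k, Fi23Plus.sub'_le hk⟩)).symm

theorem range_fam : Set.range fam = perpSet Fi24Class.cls zee ∩ perpSet Fi24Class.cls (trp (Fi24Class.gpt 1)) := by
  have h1 : ∀ p : Fin nPts, Commute (trp (Fi24Class.gpt 1)) (trp p) ↔ T 1 p = p := fun p => by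
    rw [commute_trp_iff, trp_gpt, Fin.ext_iff]
    show (rho (gen 1) p : ℕ) = p ↔ _
    rw [rho_gen_val (by norm_num)]
  ext y
  constructor
  · rintro ⟨i, rfl⟩
    have h := pt_spec i.2
    simp only [ptOK, Bool.and_eq_true, Bool.not_eq_true'] at h
    obtain ⟨⟨⟨⟨-, t0⟩, t1⟩, n0⟩, n2⟩ := h
    refine ⟨(perp_iff _).2 ⟨⟨pN i, pN_lt i.2⟩, (inA_iff _).2 ⟨fun e => ?_,
      Fin.ext ((sig_val all_points (by norm_num) _).trans (Nat.eq_of_beq_eq_true t0))⟩, rfl⟩,
      ⟨⟨_, rfl⟩, fun e => ?_, (h1 _).2 (Nat.eq_of_beq_eq_true t1)⟩⟩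
    · have e' : pN i = 0 := congrArg Fin.val e
      rw [e', Nat.beq_refl] at n0
      exact Bool.noConfusion n0
    · have e' : pN i = 2 := congrArg Fin.val (trp_injective e)
      rw [e', Nat.beq_refl] at n2
      exact Bool.noConfusion n2
  · rintro ⟨h0, ⟨-, hne1, c1⟩⟩
    obtain ⟨p, hA, rfl⟩ := (perp_iff _).1 h0
    have h := scan_spec p hA
    simp only [scanOK, Bool.or_eq_true, Bool.not_eq_true', Bool.and_eq_true, Nat.blt_eq] at h
    rw [(h1 p).1 c1, Nat.beq_refl] at h
    rcases h with (h | h) | ⟨hlt, he⟩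
    · exact Bool.noConfusion h
    · exact absurd (congrArg trp (show p = Fi24Class.gpt 1 from Fin.ext (Nat.eq_of_beq_eq_true h))) hne1
    · exact ⟨⟨_, hlt⟩, congrArg trp (Fin.ext (Nat.eq_of_beq_eq_true he))⟩

theorem not_comm : ¬ Commute zee (trp (Fi24Class.gpt 1)) := by
  rw [← trp_pt0, commute_trp_iff, trp_pt0, rho_zee]
  intro h
  have h' := (sig_val all_points (show 0 < 12 by norm_num) (Fi24Class.gpt 1)).symm.trans (congrArg Fin.val h)
  exact absurd h' (show ¬ T 0 (gpts.getD 1 0) = gpts.getD 1 0 by decide +kernel)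

theorem exists_normal :
    ∃ (N : Subgroup (↥(Subgroup.closure (Set.range fam)) ⧸ Subgroup.center ↥(Subgroup.closure (Set.range fam))))
      (_ : N.Normal), Nonempty (N ≃* Cfsg.POmega (ZMod 3) (Cfsg.quadFormPlus 4 (ZMod 3))) ∧
      Nonempty ((↥(Subgroup.closure (Set.range fam)) ⧸ Subgroup.center ↥(Subgroup.closure (Set.range fam))) ⧸ N ≃*
        Equiv.Perm (Fin 3)) := by
  obtain ⟨e0, -⟩ := RackQuot.closure_quotient_equiv fam other fam_inj other_inj (inc (by norm_num : 10 ≤ 3240))
    (fFin fTbls (by norm_num)) reach fam_conj other_conj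
  let e := ((e0.trans (quotCenterCongr (MulEquiv.subgroupCongr closure_other))).trans
    (QuotientGroup.quotientMulEquivOfEq center_big)).trans QuotientGroup.quotientBot
  obtain ⟨f⟩ := Fi23Plus.theta_ker_iso
  have hmap : (Fi23Plus.theta.ker.comap e.toMonoidHom).map e.toMonoidHom = Fi23Plus.theta.ker :=
    Subgroup.map_comap_eq_self_of_surjective e.surjective _
  haveI hn : (Fi23Plus.theta.ker.comap e.toMonoidHom).Normal := Subgroup.normal_comap _
  exact ⟨_, hn, ⟨((e.subgroupMap _).trans (MulEquiv.subgroupCongr hmap)).trans f⟩,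
    ⟨(QuotientGroup.congr _ _ e hmap).trans
      (QuotientGroup.quotientKerEquivOfSurjective Fi23Plus.theta Fi23Plus.theta_surjective)⟩⟩

theorem isOfTypeM24 : Cfsg.IsOfTypeM24 X₀ Fi24Class.cls := by
  refine ⟨Fi24Class.center_eq, zee, ⟨pt0, trp_pt0⟩, trp (Fi24Class.gpt 1), ⟨_, rfl⟩, not_comm,
    m23_congr descend descend_cls M23.isOfTypeM23, ?_⟩
  obtain ⟨N, hN, ⟨f⟩, ⟨g⟩⟩ := exists_normal
  let q := quotCenterCongr (MulEquiv.subgroupCongr (congrArg Subgroup.closure range_fam))
  haveI := hN
  haveI hn : (N.map q.toMonoidHom).Normal := Subgroup.Normal.map hN _ q.surjective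
  exact ⟨N.map q.toMonoidHom, hn, ⟨(q.subgroupMap N).symm.trans f⟩,
    ⟨(QuotientGroup.congr N (N.map q.toMonoidHom) q rfl).symm.trans g⟩⟩

end

end CfsgLib.Spor.FischerTypes.M24
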