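/-
Existence of the three types.
-/
import Cfsg.Agent.Lib.Spor.FischerTypes.M24
import Cfsg.Prelude.Def_Solvable

set_option autoImplicit false

namespace CfsgLib.Spor.FischerTypes

theorem exists_types :
    (∃ (X : Type) (_ : Group X) (_ : Finite X) (E : Set X), Cfsg.IsThreeTranspositionClass E ∧
      Cfsg.IsPrimitiveUnderConj E ∧ Cfsg.IsOfTypeM22 X E) ∧
    (∃ (X : Type) (_ : Group X) (_ : Finite X) (E : Set X), Cfsg.IsThreeTranspositionClass E ∧
      Cfsg.IsPrimitiveUnderConj E ∧ Cfsg.IsOfTypeM23 X E) ∧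
    (∃ (X : Type) (_ : Group X) (_ : Finite X) (E : Set X), Cfsg.IsThreeTranspositionClass E ∧
      Cfsg.IsPrimitiveUnderConj E ∧ Cfsg.IsOfTypeM24 X E) :=
  ⟨⟨Fi22Out.Gp, inferInstance, Nat.finite_of_card_ne_zero (ne_of_eq_of_ne Fi22.card_fi22 (by norm_num)), M22.cls,
      M22.three_class, M22.primitive, M22.isOfTypeM22⟩,
    ⟨Fi23Out.Gp, inferInstance, M23.finite_gp, M23.cls, M23.three_class, M23.primitive, M23.isOfTypeM23⟩,
    ⟨Fi24Class.X₀, inferInstance, Fi24.finite_X, Fi24Class.cls, Fi24Class.three_class, M24.primitive,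
      M24.isOfTypeM24⟩⟩

end CfsgLib.Spor.FischerTypes
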